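import Groth.Agent.Lib.MumVan22.Fibres
import Groth.Agent.Lib.CubeField.Square
import Groth.Agent.Lib.AbRigid.Connected
import Groth.Agent.Lib.AlgEquiv22.NonDeg

/-!
# Mumford's surjectivity of `φ_L`
-/

universe u

open CategoryTheory Limits MonoidalCategory CartesianMonoidalCategory AlgebraicGeometry TopologicalSpace Opposite
open scoped MonObj GrpObj

set_option linter.style.haveILetI false
set_option linter.unusedSectionVars false
set_option maxHeartbeats 1000000
set_option backward.isDefEq.respectTransparency false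

noncomputable section

namespace Groth.Agent.MumVan22

open AlgEquiv22

noncomputable local instance instLawMVS (Y : Scheme.{u}) : PicGrp.Law Y := M2.law Y

variable {k : Type u} [Field k] [IsAlgClosed k] {A : Over (Spec (CommRingCat.of k))} [GrpObj A] [IsProper A.hom]
  [GeometricallyIntegral A.hom]

/-- `t^* c - c` is translation invariant. -/
theorem inv_translate_div (c : PicLoc.PicSet A.left) (t : 𝟙_ (Over (Spec (CommRingCat.of k))) ⟶ A) :
    Inv (pb (𝟙 A * (toUnit A ≫ t)) c * c⁻¹) := by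
  haveI := isCommMonObj_of_isProper_of_geometricallyIntegral A
  intro a
  obtain ⟨L, hL, rfl⟩ := PicGrp.exists_eq_cls c
  have hP : ∀ f : A ⟶ A, CubeField.P L hL f = pb f (PicGrp.cls L hL) := fun f => (PicGrp.pullHom_cls _ _ _ _).symm
  have h1 := CubeField.square (L := L) (hL := hL) CubeField.finH1 (𝟙 A) (toUnit A ≫ a) (toUnit A ≫ t)
  rw [_root_.mul_assoc (𝟙 A), ← MonObj.comp_mul, CubeField.P_const, CubeField.P_const, CubeField.P_const,
    _root_.mul_one, _root_.mul_one, _root_.mul_one, CubeField.P_id, hP, hP, hP] at h1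
  have hcomp : (𝟙 A * (toUnit A ≫ a)) ≫ (𝟙 A * (toUnit A ≫ t)) = 𝟙 A * (toUnit A ≫ (a * t)) := by
    rw [MonObj.comp_mul, Category.comp_id, comp_toUnit_assoc, _root_.mul_assoc, ← MonObj.comp_mul]
  rw [map_mul, map_inv, pb_pb, hcomp, mul_inv_eq_iff_eq_mul, mul_right_comm, eq_mul_inv_iff_mul_eq, h1]
  exact mul_comm _ _

/-- An invertible module is flat over the second factor of a product over a field. -/
theorem isFlatOver_proj {P : Over (Spec (CommRingCat.of k))} (f : P ⟶ A) [Flat f.left] {L : P.left.Modules}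
    (hL : PicF.IsInvertible L) : FlatMod.IsFlatOver f.left L :=
  DPerf.isFlatOver_of_isFlat f.left (M := L) fun x => KFlat.Sch.isFlat_of_isFinLocFree (M2.isFinLocFree_of_isInvertible hL) x

theorem isPullback_slice_snd (t : 𝟙_ (Over (Spec (CommRingCat.of k))) ⟶ A) :
    IsPullback (sl A t).left A.hom (snd A A).left t.left := by
  have hg : t.left ≫ A.hom = 𝟙 (Spec (CommRingCat.of k)) := Over.w t
  refine IsPullback.of_right ?_ ?_ (IsPullback.of_hasPullback A.hom A.hom)
  · have h1 : (sl A t).left ≫ pullback.fst A.hom A.hom = 𝟙 A.left := congrArg CommaMorphism.left (lift_fst (𝟙 A) _)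
    rw [h1, hg]
    exact IsPullback.of_horiz_isIso ⟨by rw [Category.comp_id]; exact Category.id_comp _⟩
  · rw [← Over.comp_left, lift_snd, Over.comp_left, Over.toUnit_left]

theorem isPullback_slice_fst (t : 𝟙_ (Over (Spec (CommRingCat.of k))) ⟶ A) :
    IsPullback (lift (toUnit A ≫ t) (𝟙 A)).left A.hom (fst A A).left t.left := by
  have hg : t.left ≫ A.hom = 𝟙 (Spec (CommRingCat.of k)) := Over.w t
  refine IsPullback.of_right ?_ ?_ (IsPullback.of_hasPullback A.hom A.hom).flip
  · have h1 : (lift (toUnit A ≫ t) (𝟙 A)).left ≫ pullback.snd A.hom A.hom = 𝟙 A.left :=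
      congrArg CommaMorphism.left (lift_snd (toUnit A ≫ t) (𝟙 A))
    rw [h1, hg]
    exact IsPullback.of_horiz_isIso ⟨by rw [Category.comp_id]; exact Category.id_comp _⟩
  · rw [← Over.comp_left, lift_fst, Over.comp_left, Over.toUnit_left]

/-- Nontrivial translation invariant slices have no cohomology. -/
theorem subsingleton_slice {P : Over (Spec (CommRingCat.of k))} (s : A ⟶ P) {L : P.left.Modules}
    (hL : PicF.IsInvertible L) (hinv : Inv (pb s (PicGrp.cls L hL))) (hne : pb s (PicGrp.cls L hL) ≠ 1) (p : ℕ) :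
    Subsingleton (Coh.HH A.left ((Scheme.Modules.pullback s.left).obj L) p) := by
  have h : PicGrp.cls _ (PicLoc.isInvertible_pullback s.left hL) = pb s (PicGrp.cls L hL) :=
    (PicGrp.pullHom_cls _ _ _ _).symm
  exact subsingleton_of_add (PicLoc.isInvertible_pullback s.left hL) (h ▸ hinv.add)
    (fun ht => hne (h ▸ (PicGrp.cls_eq_one_iff _).2 ht)) p

/-- The closed point of a rational point. -/
theorem isClosed_rpt (t : 𝟙_ (Over (Spec (CommRingCat.of k))) ⟶ A) : IsClosed ({CubeField.rpt t} : Set A.left) := by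
  haveI : LocallyOfFiniteType (t.left ≫ A.hom) := by
    rw [Over.w t]; exact inferInstanceAs (LocallyOfFiniteType (𝟙 (Spec (CommRingCat.of k))))
  haveI : LocallyOfFiniteType t.left := locallyOfFiniteType_of_comp t.left A.hom
  haveI : JacobsonSpace A.left := LocallyOfFiniteType.jacobsonSpace A.hom
  exact t.left.closePoints_subset_preimage_closedPoints (isClosed_discrete (α := Spec (CommRingCat.of k)) _)

/-- Vanishing of the fibres at rational points gives vanishing at all points of an open. -/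
theorem fibres_of_closed {X : Scheme.{u}} (f : X ⟶ A.left) [IsProper f] {F : X.Modules} (hF : Coh.IsCoh F)
    (hfl : FlatMod.IsFlatOver f F) {O : A.left.Opens}
    (h : ∀ t, CubeField.rpt t ∈ O → ∀ p, Subsingleton (CohIII.fiberH f F (CubeField.rpt t) p)) :
    ∀ y ∈ O, ∀ p, Subsingleton (CohIII.fiberH f F y p) := by
  intro y hy p
  haveI : IsLocallyNoetherian A.left := LocallyOfFiniteType.isLocallyNoetherian A.hom
  haveI : JacobsonSpace A.left := LocallyOfFiniteType.jacobsonSpace A.hom
  obtain ⟨U, hU, hyU, hUO⟩ := exists_isAffineOpen_mem_and_subset (X := A.left) (x := y) (U := O) hy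
  obtain ⟨P, hfin, hflat, -, -, hP⟩ := CBC10.exists_complexOn hF hfl hU
  haveI := hfin
  haveI := hflat
  haveI : IsNoetherianRing Γ(A.left, U) := IsLocallyNoetherian.component_noetherian ⟨U, hU⟩
  refine hP.subsingleton_fiberH_of_fiberRank_eq_zero hF.1 hyU ?_
  by_contra hne
  obtain ⟨x, ⟨hxy, hxU⟩, hxc⟩ := nonempty_inter_closedPoints (Z := closure {y} ∩ (U : Set A.left))
    ⟨y, subset_closure rfl, hyU⟩ (isClosed_closure.isLocallyClosed.inter U.isOpen.isLocallyClosed)
  obtain ⟨t, rfl⟩ := CubeField.exists_rpt (X := A) hxc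
  have h0 := CBC10.fiberRank_eq_zero_of_subsingleton (h t (hUO hxU) p)
  have hnear := hP.eventually_fiberRank_eq hF.1 hxU p (by
    filter_upwards [FlatCxLib.upperSemicontinuous_dRank P (-(p : ℤ)) (hU.primeIdealOf ⟨_, hxU⟩) 1
      (show CohIII.dRank P _ _ < 1 by rw [← hP.fiberRank_eq hxU hF.1 p, h0]; exact Nat.one_pos)] with z hz
    rw [← hP.fiberRank_eq hxU hF.1 p, h0]
    omega)
  obtain ⟨N, hN, hNo, hxN⟩ := mem_nhds_iff.1 hnear
  have hyN : y ∈ N := (specializes_iff_mem_closure.2 hxy).mem_open hNo hxN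
  exact hne ((hN hyN).trans h0)

/-- Mumford's theorem: `φ_L` is surjective onto the translation invariant classes. -/
theorem exists_translate {L M : A.left.Modules} (hL : PicF.IsInvertible L) (hM : PicF.IsInvertible M)
    (hInv : Inv (PicGrp.cls M hM))
    (hnd : {a : 𝟙_ (Over (Spec (CommRingCat.of k))) ⟶ A |
      pb (𝟙 A * (toUnit A ≫ a)) (PicGrp.cls L hL) = PicGrp.cls L hL}.Finite) :
    ∃ a : 𝟙_ (Over (Spec (CommRingCat.of k))) ⟶ A,
      pb (𝟙 A * (toUnit A ≫ a)) (PicGrp.cls L hL) * (PicGrp.cls L hL)⁻¹ = PicGrp.cls M hM := by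
  classical
  haveI := isCommMonObj_of_isProper_of_geometricallyIntegral A
  haveI : IsLocallyNoetherian A.left := LocallyOfFiniteType.isLocallyNoetherian A.hom
  haveI : CompactSpace A.left := QuasiCompact.compactSpace_of_compactSpace A.hom
  haveI : IsNoetherian A.left := {}
  by_contra hcon
  push Not at hcon
  let cL := PicGrp.cls L hL
  let c := pb (fst A A * snd A A) cL * (pb (fst A A) cL * pb (snd A A) cL)⁻¹ * (pb (fst A A) (PicGrp.cls M hM))⁻¹
  obtain ⟨N, hN, hc⟩ := PicGrp.exists_eq_cls c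
  have hcoh : Coh.IsCoh N := CubeField.isCoh_of_isInvertible hN
  haveI : IsProper (snd A A).left := inferInstanceAs (IsProper (pullback.snd A.hom A.hom))
  haveI : IsProper (fst A A).left := inferInstanceAs (IsProper (pullback.fst A.hom A.hom))
  haveI : Flat (snd A A).left := AbRigid.flat_snd_left A A
  haveI : Flat A.hom := inferInstance
  haveI : Flat (fst A A).left := inferInstanceAs (Flat (pullback.fst A.hom A.hom))
  have hsnd : ∀ t, pb (sl A t) (PicGrp.cls N hN) = pb (𝟙 A * (toUnit A ≫ t)) cL * cL⁻¹ * (PicGrp.cls M hM)⁻¹ := by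
    intro t
    simp only [← hc, c, map_mul, map_inv, pb_pb, MonObj.comp_mul, lift_fst, lift_snd, pb_const, pb_id, _root_.mul_one]
  have hfst : ∀ t, pb (lift (toUnit A ≫ t) (𝟙 A)) (PicGrp.cls N hN) = pb (𝟙 A * (toUnit A ≫ t)) cL * cL⁻¹ := by
    intro t
    simp only [← hc, c, map_mul, map_inv, pb_pb, MonObj.comp_mul, lift_fst, lift_snd, pb_const, pb_id, _root_.mul_one,
      _root_.one_mul, _root_.inv_one]
    rw [mul_comm (toUnit A ≫ t) (𝟙 A)]
  have hS : ∀ (t : 𝟙_ (Over (Spec (CommRingCat.of k))) ⟶ A) (p : ℕ),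
      Subsingleton (CohIII.fiberH (snd A A).left N (CubeField.rpt t) p) := fun t p =>
    (subsingleton_fiber_iff (snd A A) _ t (isPullback_slice_snd t) hN p).2 (subsingleton_slice _ hN
      (by rw [hsnd]; exact (inv_translate_div _ t).mul hInv.inv)
      (by rw [hsnd, Ne, mul_inv_eq_one]; exact hcon t) p)
  have htop : Van (snd A A).left N ⊤ := van_of_fibres_qc (snd A A).left hcoh (isFlatOver_proj (snd A A) hN)
    (fibres_of_closed _ hcoh (isFlatOver_proj (snd A A) hN) (O := ⊤) fun t _ => hS t) isCompact_univ le_top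
  -- the other projection
  let S := {a : 𝟙_ (Over (Spec (CommRingCat.of k))) ⟶ A | pb (𝟙 A * (toUnit A ≫ a)) cL = cL}
  let Bad : Set A.left := ⋃ a ∈ S, {CubeField.rpt a}
  have hBad : IsClosed Bad := hnd.isClosed_biUnion fun a _ => isClosed_rpt a
  have hmem : ∀ t, CubeField.rpt t ∈ Bad ↔ t ∈ S := fun t => by
    simp only [Bad, Set.mem_iUnion, Set.mem_singleton_iff]
    exact ⟨fun ⟨a, ha, he⟩ => by rwa [CubeField.rpt_injective he], fun h => ⟨t, h, rfl⟩⟩
  let O : A.left.Opens := ⟨Badᶜ, hBad.isOpen_compl⟩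
  have hF : ∀ (t : 𝟙_ (Over (Spec (CommRingCat.of k))) ⟶ A), CubeField.rpt t ∈ O → ∀ p,
      Subsingleton (CohIII.fiberH (fst A A).left N (CubeField.rpt t) p) := fun t ht p =>
    (subsingleton_fiber_iff (fst A A) _ t (isPullback_slice_fst t) hN p).2 (subsingleton_slice _ hN
      (by rw [hfst]; exact inv_translate_div _ t)
      (by rw [hfst, Ne, mul_inv_eq_one]; exact fun h => ht ((hmem t).2 h)) p)
  let e0 : 𝟙_ (Over (Spec (CommRingCat.of k))) ⟶ A := 1
  let Rest : Set A.left := ⋃ a ∈ S \ {e0}, {CubeField.rpt a}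
  have hRest : IsClosed Rest := (hnd.subset Set.sdiff_subset).isClosed_biUnion fun a _ => isClosed_rpt a
  have he0 : CubeField.rpt e0 ∈ (⟨Restᶜ, hRest.isOpen_compl⟩ : A.left.Opens) := fun h => by
    simp only [Rest, Set.mem_iUnion, Set.mem_singleton_iff] at h
    obtain ⟨a, ⟨-, ha⟩, he⟩ := h
    exact ha (CubeField.rpt_injective he).symm
  obtain ⟨U0, hU0, heU0, hU0R⟩ := exists_isAffineOpen_mem_and_subset (X := A.left) he0
  let U1 : A.left.Opens := ⟨({CubeField.rpt e0} : Set A.left)ᶜ, (isClosed_rpt e0).isOpen_compl⟩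
  have hI : U0 ⊓ U1 ≤ O := by
    rintro w ⟨hw0, hw1⟩ hw
    simp only [Bad, Set.mem_iUnion, Set.mem_singleton_iff] at hw
    obtain ⟨a, haS, rfl⟩ := hw
    refine hU0R hw0 (Set.mem_iUnion₂.2 ⟨a, ⟨haS, fun ha => hw1 ?_⟩, rfl⟩)
    rw [Set.mem_singleton_iff.1 ha]
    rfl
  have hfib := fibres_of_closed (fst A A).left hcoh (isFlatOver_proj (fst A A) hN) hF
  have hVI : Van (fst A A).left N (U0 ⊓ U1) := van_of_fibres_qc (fst A A).left hcoh
    (isFlatOver_proj (fst A A) hN) hfib (NoetherianSpace.isCompact _) hI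
  have hsup : U0 ⊔ U1 = ⊤ := top_le_iff.1 fun w _ => by
    by_cases hw : w = CubeField.rpt e0
    · exact Or.inl (hw ▸ heU0)
    · exact Or.inr hw
  have hall : Van (fst A A).left N (U0 ⊔ U1) := fun n => by
    rw [hsup]
    exact htop n
  have h0 := (subsingleton_fiber_iff (fst A A) _ e0 (isPullback_slice_fst e0) hN 0).1
    (fibres_of_van (fst A A).left hcoh (isFlatOver_proj (fst A A) hN) hU0 (van_left _ hall hVI) heU0 0)
  refine not_subsingleton_iff_nontrivial.2 (nontrivial_of_triv (PicLoc.isInvertible_pullback _ hN) ?_) h0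
  rw [isTriv_iff _ hN, hfst, MonObj.comp_one, _root_.mul_one, pb_id, mul_inv_cancel]

end Groth.Agent.MumVan22
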