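import Groth.Agent.Lib.MumVan22.Glue
import Groth.Agent.Lib.AlgEquiv22.Closed
import Groth.Agent.Lib.CohBC18.Field
import Groth.Agent.Lib.DiagGL.Chars
import Groth.Agent.Lib.BorelFix21.BaseChange

/-!
# Cohomology of a nontrivial additive class vanishes
-/

universe u

open CategoryTheory Limits MonoidalCategory CartesianMonoidalCategory AlgebraicGeometry TopologicalSpace Opposite
open scoped MonObj GrpObj

set_option linter.style.haveILetI false
set_option linter.unusedSectionVars false
set_option maxHeartbeats 2000000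
set_option backward.isDefEq.respectTransparency false

noncomputable section

namespace Groth.Agent.MumVan22

noncomputable local instance instLawMVV (Y : Scheme.{u}) : PicGrp.Law Y := M2.law Y

variable {k : Type u} [Field k] {A : Over (Spec (CommRingCat.of k))}

variable [GrpObj A]

/-- Additivity from the universal case. -/
theorem add_of_mu {c : PicLoc.PicSet A.left}
    (h : AlgEquiv22.pb μ[A] c = AlgEquiv22.pb (fst A A) c * AlgEquiv22.pb (snd A A) c) : AlgEquiv22.Add c :=
  fun V f g => by
    rw [show f * g = lift f g ≫ μ[A] from rfl, ← AlgEquiv22.pb_pb, h, map_mul, AlgEquiv22.pb_pb, AlgEquiv22.pb_pb,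
      lift_fst, lift_snd]

/-- The class condition of the statements. -/
theorem pb_mu_of_iso {L : A.left.Modules} (hL : PicF.IsInvertible L)
    (e : (Scheme.Modules.pullback μ[A].left).obj L ≅
      CohB1.tensorMod ((Scheme.Modules.pullback (fst A A).left).obj L) ((Scheme.Modules.pullback (snd A A).left).obj L)) :
    AlgEquiv22.pb μ[A] (PicGrp.cls L hL) =
      AlgEquiv22.pb (fst A A) (PicGrp.cls L hL) * AlgEquiv22.pb (snd A A) (PicGrp.cls L hL) := by
  rw [AlgEquiv22.pb, AlgEquiv22.pb, AlgEquiv22.pb, PicGrp.pullHom_cls, PicGrp.pullHom_cls, PicGrp.pullHom_cls]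
  apply Subtype.ext
  rw [PicGrp.cls_val, PicGrp.mul_val, PicGrp.cls_val, PicGrp.cls_val, PicGrp.mulCl_cl]
  exact (PicGrp.cl_eq_cl_iff _ _).2 ⟨e⟩

/-- Inversion exchanges an additive class and its inverse. -/
theorem iso_inverse {M D : A.left.Modules} (hM : PicF.IsInvertible M) (hD : PicF.IsInvertible D)
    (h : Nonempty (CohB1.tensorMod M D ≅ Coh.structureModule A.left)) (hadd : AlgEquiv22.Add (PicGrp.cls M hM)) :
    Nonempty ((Scheme.Modules.pullback ((𝟙 A)⁻¹ : A ⟶ A).left).obj M ≅ D) := by
  have h1 : PicGrp.cls M hM * PicGrp.cls D hD = 1 := by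
    apply Subtype.ext
    rw [PicGrp.mul_val, PicGrp.cls_val, PicGrp.cls_val, PicGrp.mulCl_cl, PicGrp.one_val]
    exact (PicGrp.cl_eq_cl_iff _ _).2 h
  have h2 := hadd.inv' (𝟙 A)
  rw [AlgEquiv22.pb_id, inv_eq_of_mul_eq_one_right h1, AlgEquiv22.pb, PicGrp.pullHom_cls] at h2
  exact (PicGrp.cls_eq_cls_iff _ _).1 h2

variable [IsProper A.hom] [GeometricallyIntegral A.hom]

/-- Over an algebraically closed field an additive class with nonzero cohomology is trivial. -/
theorem isTriv_of_nontrivial [IsAlgClosed k] {M : A.left.Modules} (hM : PicF.IsInvertible M)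
    (hadd : AlgEquiv22.Add (PicGrp.cls M hM)) (p : ℕ) (h : Nontrivial (Coh.HH A.left M p)) :
    CubeField.IsTriv M := by
  haveI : IsIntegral A.left := GeometricallyIntegral.isIntegral_of_subsingleton A.hom
  obtain ⟨x, hx⟩ := exists_ne (0 : Coh.HH A.left M p)
  have h0 := nontrivial_H0 hM hadd p x hx
  obtain ⟨D, hD, e⟩ := M2.exists_inverse hM
  refine (AlgEquiv22.isTriv_iff_sections A.hom hM hD e).2 ⟨h0, ?_⟩
  obtain ⟨σ, w, hw⟩ := (AlgEquiv22.exists_hom_ne_zero_iff hM).1 h0
  refine (AlgEquiv22.exists_hom_ne_zero_iff hD).2 ?_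
  let i := ((𝟙 A)⁻¹ : A ⟶ A).left
  obtain ⟨j⟩ := iso_inverse hM hD e hadd
  refine ⟨((PicLoc.pullbackStructureIso i).inv ≫ (Scheme.Modules.pullback i).map σ) ≫ j.hom, i w, ?_⟩
  rw [SetLike.mem_coe, Amp.genLocus_comp_iso]
  have hgl := Amp.genLocus_pullback i hM σ (PicLoc.pullbackStructureIso i).symm
  refine hgl.symm ▸ ?_
  show i (i w) ∈ CohB1.genLocus M σ
  rw [← Scheme.Hom.comp_apply, ← Over.comp_left,
    show ((𝟙 A)⁻¹ : A ⟶ A) ≫ (𝟙 A)⁻¹ = 𝟙 A by simp [GrpObj.comp_inv], Over.id_left]
  exact hw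

/-- Base change of an additive class. -/
theorem add_bc {K : Type u} [Field K] [Algebra k K] {c : PicLoc.PicSet A.left} (hc : AlgEquiv22.Add c) :
    AlgEquiv22.Add (A := Red.bc (Spec.map (CommRingCat.ofHom (algebraMap k K))) A)
      (PicGrp.pullHom (pullback.fst A.hom (Spec.map (CommRingCat.ofHom (algebraMap k K)))) (M2.pullMul _) c) := by
  intro V f g
  let φ := Spec.map (CommRingCat.ofHom (algebraMap k K))
  have hval : ∀ x : V ⟶ Red.bc φ A, AlgEquiv22.pb x (PicGrp.pullHom (pullback.fst A.hom φ) (M2.pullMul _) c) =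
      PicGrp.pullHom (DiagGL.fl φ A x).left (M2.pullMul _) c := fun x => by
    apply Subtype.ext
    rw [AlgEquiv22.pb, PicGrp.pullHom_apply_val, PicGrp.pullHom_apply_val, PicGrp.pullHom_apply_val]
    refine (PicDesc21.pullCl_pullCl _ _ _).trans (congrArg (fun t => PicF.pullCl t c.1) ?_)
    simp [DiagGL.fl]
    rfl
  rw [hval, hval, hval, DiagGL.fl_mul]
  exact hc _ _

/-- Cohomology of a nontrivial additive class vanishes. -/
theorem subsingleton_of_add {M : A.left.Modules} (hM : PicF.IsInvertible M)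
    (hadd : AlgEquiv22.Add (PicGrp.cls M hM)) (hne : ¬ CubeField.IsTriv M) (p : ℕ) :
    Subsingleton (Coh.HH A.left M p) := by
  letI : A.left.Over (Spec (CommRingCat.of k)) := ⟨A.hom⟩
  by_contra hcon
  rw [not_subsingleton_iff_nontrivial] at hcon
  let K := AlgebraicClosure k
  let φ := Spec.map (CommRingCat.ofHom (algebraMap k K))
  let B := Red.bc φ A
  let q : B.left ⟶ A.left := pullback.fst A.hom φ
  haveI : IsProper B.hom := MorphismProperty.pullback_snd _ _ inferInstance
  haveI : GeometricallyIntegral B.hom := MorphismProperty.pullback_snd _ _ inferInstance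
  haveI : IsIntegral A.left := GeometricallyIntegral.isIntegral_of_subsingleton A.hom
  haveI : CompactSpace A.left := QuasiCompact.compactSpace_of_compactSpace A.hom
  haveI : QuasiSeparatedSpace A.left := quasiSeparatedSpace_of_quasiSeparated A.hom
  have key : ∀ {N : A.left.Modules} (hN : PicF.IsInvertible N) (n : ℕ),
      Nontrivial (Coh.HH B.left ((Scheme.Modules.pullback q).obj N) n) ↔ Nontrivial (Coh.HH A.left N n) := by
    intro N hN n
    letI : B.left.Over (Spec (CommRingCat.of K)) := ⟨B.hom⟩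
    obtain ⟨e⟩ := CohBC18.nonempty_HH_bc (k := k) A.left K N
      (M2.isQCoh_of_isFinLocFree (M2.isFinLocFree_of_isInvertible hN)) n
    refine (e.toEquiv.nontrivial_congr).symm.trans ⟨fun h => ?_, fun h => inferInstance⟩
    by_contra h'
    rw [not_nontrivial_iff_subsingleton] at h'
    exact not_subsingleton (TensorProduct k K (Coh.HH A.left N n)) inferInstance
  have hB : AlgEquiv22.Add (A := B) (PicGrp.cls _ (PicLoc.isInvertible_pullback q hM)) := by
    have h := add_bc (K := K) hadd
    rwa [PicGrp.pullHom_cls] at h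
  have ht := isTriv_of_nontrivial (A := B) (PicLoc.isInvertible_pullback q hM) hB p ((key hM p).2 hcon)
  obtain ⟨D, hD, e⟩ := M2.exists_inverse hM
  haveI : IsIntegral B.left := GeometricallyIntegral.isIntegral_of_subsingleton B.hom
  obtain ⟨hMne, hDne⟩ := (AlgEquiv22.isTriv_iff_sections B.hom (PicLoc.isInvertible_pullback q hM)
    (PicLoc.isInvertible_pullback q hD) ⟨(M2.pullTensorIso q M D).symm ≪≫
      (Scheme.Modules.pullback q).mapIso e.some ≪≫ PicLoc.pullbackStructureIso q⟩).1 ht
  exact hne ((AlgEquiv22.isTriv_iff_sections A.hom hM hD e).2 ⟨(key hM 0).1 hMne, (key hD 0).1 hDne⟩)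

/-- The structure sheaf has nonzero sections. -/
theorem nontrivial_of_triv {M : A.left.Modules} (hM : PicF.IsInvertible M) (h : CubeField.IsTriv M) :
    Nontrivial (Coh.HH A.left M 0) := by
  haveI : IsIntegral A.left := GeometricallyIntegral.isIntegral_of_subsingleton A.hom
  obtain ⟨D, hD, e⟩ := M2.exists_inverse hM
  exact ((AlgEquiv22.isTriv_iff_sections A.hom hM hD e).1 h).1

end Groth.Agent.MumVan22
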