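import Groth.Agent.Lib.MumVan22.Degen
import Groth.Agent.Lib.CurveCoh17.Euler

/-!
# The Euler characteristic of a degenerate module
-/

universe u

open CategoryTheory Limits MonoidalCategory CartesianMonoidalCategory AlgebraicGeometry TopologicalSpace Opposite
open scoped MonObj GrpObj

set_option linter.style.haveILetI false
set_option linter.unusedSectionVars false
set_option maxHeartbeats 1000000
set_option backward.isDefEq.respectTransparency false

noncomputable section

namespace Groth.Agent.MumVan22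

open AlgEquiv22

noncomputable local instance instLawMVDE (Y : Scheme.{u}) : PicGrp.Law Y := M2.law Y

variable {k : Type u} [Field k] [IsAlgClosed k] {A : Over (Spec (CommRingCat.of k))} [GrpObj A] [IsProper A.hom]
  [GeometricallyIntegral A.hom]

/-- A degenerate module has Euler characteristic zero. -/
theorem euler_eq_zero_of_infinite {L : A.left.Modules} (hL : PicF.IsInvertible L)
    (hinf : {a : 𝟙_ (Over (Spec (CommRingCat.of k))) ⟶ A |
      pb (𝟙 A * (toUnit A ≫ a)) (PicGrp.cls L hL) = PicGrp.cls L hL}.Infinite) :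
    @Curv2.euler k _ A.left ⟨A.hom⟩ L = 0 := by
  classical
  letI : A.left.Over (Spec (CommRingCat.of k)) := ⟨A.hom⟩
  haveI := isCommMonObj_of_isProper_of_geometricallyIntegral A
  haveI : IsLocallyNoetherian A.left := LocallyOfFiniteType.isLocallyNoetherian A.hom
  haveI : IsIntegral A.left := GeometricallyIntegral.isIntegral_of_subsingleton A.hom
  set c := PicGrp.cls L hL with hc
  obtain ⟨Z, hZ, hmem⟩ := exists_isClosed_fixing c
  have hcomp : ∀ a b : 𝟙_ (Over (Spec (CommRingCat.of k))) ⟶ A,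
      (𝟙 A * (toUnit A ≫ a)) ≫ (𝟙 A * (toUnit A ≫ b)) = 𝟙 A * (toUnit A ≫ (a * b)) := fun a b => by
    rw [MonObj.comp_mul, Category.comp_id, comp_toUnit_assoc, _root_.mul_assoc, ← MonObj.comp_mul]
  have hmul : ∀ a b, CubeField.rpt a ∈ Z → CubeField.rpt b ∈ Z → CubeField.rpt (a * b⁻¹) ∈ Z := by
    intro a b ha hb
    rw [hmem] at ha hb ⊢
    have hb' : pb (𝟙 A * (toUnit A ≫ b⁻¹)) c = c := by
      conv_lhs => rw [← hb]
      rw [pb_pb, hcomp, inv_mul_cancel, MonObj.comp_one, _root_.mul_one, pb_id]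
    rw [← hcomp, ← pb_pb, hb', ha]
  have hZinf : Z.Infinite := fun hf => hinf (Set.Finite.of_finite_image (hf.subset (by
    rintro _ ⟨a, ha, rfl⟩
    exact (hmem a).2 ha)) CubeField.rpt_injective.injOn)
  obtain ⟨Y, _, _, i, _, hci, hrange, hns⟩ := exists_subgroup_of_infinite hZ hZinf hmul
  haveI := hci
  haveI : IsProper Y.hom := by rw [← Over.w i]; infer_instance
  haveI := isCommMonObj_of_isProper_of_geometricallyIntegral Y
  have hfix : ∀ y : 𝟙_ (Over (Spec (CommRingCat.of k))) ⟶ Y, pb (𝟙 A * (toUnit A ≫ y ≫ i)) c = c := fun y =>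
    (hmem (y ≫ i)).1 (by rw [CubeField.rpt_comp]; exact hrange ⟨_, rfl⟩)
  have htr : ∀ y : 𝟙_ (Over (Spec (CommRingCat.of k))) ⟶ Y,
      (𝟙 Y * (toUnit Y ≫ y)) ≫ i = i ≫ (𝟙 A * (toUnit A ≫ y ≫ i)) := fun y => by
    rw [MonObj.mul_comp, MonObj.comp_mul, Category.id_comp, Category.comp_id, Category.assoc, comp_toUnit_assoc]
  have hinv : Inv (pb i c) := fun y => by rw [pb_pb, htr, ← pb_pb, hfix]
  by_cases hne : pb i c = 1
  · -- move inside the connected family of twists
    obtain ⟨Am, hAm⟩ := CubeField.exists_isAmple (A := A)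
    have hAY : CohB1.IsAmple ((Scheme.Modules.pullback i.left).obj Am) := Amp.isAmple_pullback_of_isAffineHom _ hAm
    let ℓ := PicGrp.cls Am hAm.1
    have hℓY : PicGrp.cls _ hAY.1 = pb i ℓ := (PicGrp.pullHom_cls _ _ _ _).symm
    haveI : JacobsonSpace Y.left := LocallyOfFiniteType.jacobsonSpace Y.hom
    haveI : IsIntegral Y.left := GeometricallyIntegral.isIntegral_of_subsingleton Y.hom
    obtain ⟨y, hy⟩ : ∃ y : 𝟙_ (Over (Spec (CommRingCat.of k))) ⟶ Y,
        pb (𝟙 Y * (toUnit Y ≫ y)) (pb i ℓ) ≠ pb i ℓ := by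
      by_contra hall
      push Not at hall
      have hfin : (closedPoints Y.left).Finite := by
        refine ((finite_fixing hAY).image CubeField.rpt).subset fun z hz => ?_
        obtain ⟨p, rfl⟩ := CubeField.exists_rpt (X := Y) hz
        exact ⟨p, by rw [Set.mem_setOf_eq, hℓY]; exact hall p, rfl⟩
      have huniv : closedPoints Y.left = Set.univ := by
        have h1 : IsClosed (closedPoints Y.left) := by
          rw [← Set.biUnion_of_singleton (closedPoints Y.left)]
          exact hfin.isClosed_biUnion fun z hz => hz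
        rw [← closure_closedPoints, h1.closure_eq]
      obtain ⟨W, hW, hsub⟩ := isIrreducible_iff_sUnion_isClosed.1 (IrreducibleSpace.isIrreducible_univ Y.left)
        (hfin.toFinset.image fun z => ({z} : Set Y.left))
        (fun T hT => by
          obtain ⟨z, hz, rfl⟩ := Finset.mem_image.1 hT
          exact hfin.mem_toFinset.1 hz)
        (by
          intro z _
          exact ⟨{z}, Finset.mem_coe.2 (Finset.mem_image.2 ⟨z, hfin.mem_toFinset.2 (huniv ▸ trivial), rfl⟩), rfl⟩)
      obtain ⟨z, -, rfl⟩ := Finset.mem_image.1 hW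
      exact hns ⟨fun a b => (hsub (Set.mem_univ a)).trans (hsub (Set.mem_univ b)).symm⟩
    let fam := pb (fst A A) c * (pb (fst A A * snd A A) ℓ * (pb (fst A A) ℓ)⁻¹)
    obtain ⟨N, hN, hfam⟩ := PicGrp.exists_eq_cls fam
    have hsl : ∀ t : 𝟙_ (Over (Spec (CommRingCat.of k))) ⟶ A,
        PicGrp.cls ((Scheme.Modules.pullback (sl A t).left).obj N) (PicLoc.isInvertible_pullback _ hN) =
          c * (pb (𝟙 A * (toUnit A ≫ t)) ℓ * ℓ⁻¹) := fun t => by
      have h1 : PicGrp.cls ((Scheme.Modules.pullback (sl A t).left).obj N) (PicLoc.isInvertible_pullback _ hN) =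
          pb (sl A t) (PicGrp.cls N hN) := (PicGrp.pullHom_cls _ _ _ _).symm
      rw [h1, ← hfam]
      simp only [fam, map_mul, map_inv, pb_pb, MonObj.comp_mul, lift_fst, lift_snd, pb_id]
    let e0 : 𝟙_ (Over (Spec (CommRingCat.of k))) ⟶ A := 1
    haveI : IsProper (snd A A).left := inferInstanceAs (IsProper (pullback.snd A.hom A.hom))
    haveI : Flat (snd A A).left := AbRigid.flat_snd_left A A
    haveI : IrreducibleSpace A.left := inferInstance
    have heu := euler_slice_eq (snd A A) (CubeField.isCoh_of_isInvertible hN) (isFlatOver_proj (snd A A) hN)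
      (sl A e0) (sl A (y ≫ i)) e0 (y ≫ i) (isPullback_slice_snd e0) (isPullback_slice_snd (y ≫ i))
    obtain ⟨i0⟩ : Nonempty ((Scheme.Modules.pullback (sl A e0).left).obj N ≅ L) := by
      refine (PicGrp.cls_eq_cls_iff (PicLoc.isInvertible_pullback _ hN) hL).1 ?_
      rw [hsl, MonObj.comp_one, _root_.mul_one, pb_id, mul_inv_cancel, _root_.mul_one]
    rw [CurveCoh17.euler_iso i0] at heu
    rw [heu]
    set M := (Scheme.Modules.pullback (sl A (y ≫ i)).left).obj N with hMdef
    have hM : PicF.IsInvertible M := PicLoc.isInvertible_pullback _ hN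
    have hcls : PicGrp.cls M hM = c * (pb (𝟙 A * (toUnit A ≫ y ≫ i)) ℓ * ℓ⁻¹) := hsl (y ≫ i)
    have hnI : Inv (pb (𝟙 A * (toUnit A ≫ y ≫ i)) ℓ * ℓ⁻¹) := inv_translate_div ℓ (y ≫ i)
    have hy' : pb i (PicGrp.cls M hM) = pb (𝟙 Y * (toUnit Y ≫ y)) (pb i ℓ) * (pb i ℓ)⁻¹ := by
      rw [hcls, map_mul, hne, _root_.one_mul, map_mul, map_inv, pb_pb, pb_pb, htr]
    have hvan : ∀ p : ℕ, Subsingleton (Coh.HH A.left M p) := subsingleton_of_fixed i hM
      (fun z => by rw [hcls, map_mul, hfix, hnI]) (hy' ▸ inv_translate_div _ y)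
      (by rw [hy', Ne, mul_inv_eq_one]; exact hy)
    refine finsum_eq_zero_of_forall_eq_zero fun p => ?_
    haveI := hvan p
    rw [Module.finrank_zero_of_subsingleton, Nat.cast_zero, mul_zero]
  · refine finsum_eq_zero_of_forall_eq_zero fun p => ?_
    haveI := subsingleton_of_fixed i hL hfix hinv hne p
    rw [Module.finrank_zero_of_subsingleton, Nat.cast_zero, mul_zero]

/-- The degeneracy hypothesis of the statements. -/
theorem infinite_of_statement {L : A.left.Modules} (hL : PicF.IsInvertible L)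
    (h : Set.Infinite {x : 𝟙_ (Over (Spec (CommRingCat.of k))) ⟶ A |
      Nonempty ((Scheme.Modules.pullback (𝟙 A * (toUnit A ≫ x)).left).obj L ≅ L)}) :
    {a : 𝟙_ (Over (Spec (CommRingCat.of k))) ⟶ A | pb (𝟙 A * (toUnit A ≫ a)) (PicGrp.cls L hL) = PicGrp.cls L hL}.Infinite :=
  h.mono fun a ha => by
    rw [Set.mem_setOf_eq, pb, PicGrp.pullHom_cls]
    exact (PicGrp.cls_eq_cls_iff _ _).2 ha

end Groth.Agent.MumVan22
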