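import Groth.Agent.Lib.Snapper.Main
import Groth.Agent.Lib.KFlat.LpullPC

/-!
# Euler characteristics after tensoring with a locally free module whose square splits
-/

set_option autoImplicit false
set_option linter.style.haveILetI false
set_option linter.unusedSectionVars false
set_option maxHeartbeats 1000000
set_option backward.isDefEq.respectTransparency false

universe u

open CategoryTheory CategoryTheory.Limits AlgebraicGeometry TopologicalSpace Opposite

noncomputable section

namespace Groth.Agent.ChiTwist22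

open Groth.Agent CohFound Snapper

variable {X : Scheme.{u}} {k : Type u} [Field k] [X.Over (Spec (CommRingCat.of k))]
  [IsProper (X ↘ Spec (CommRingCat.of k))]

theorem euler_add_coh {S : ShortComplex X.Modules} (hS : S.ShortExact) (h1 : Coh.IsCoh S.X₁)
    (h2 : Coh.IsCoh S.X₂) (h3 : Coh.IsCoh S.X₃) :
    Curv2.euler k X S.X₂ = Curv2.euler k X S.X₁ + Curv2.euler k X S.X₃ := by
  obtain ⟨N, hN⟩ := EulerAdd18.exists_bdd k X
  exact EulerAdd18.euler_add hS (hN _ h1) (hN _ h2) (hN _ h3)

theorem flat_stalk_of_locFree {E : X.Modules} (hE : FlatMod.IsFinLocFree E) (x : X) :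
    Module.Flat (X.presheaf.stalk x) (E.presheaf.stalk x) := KFlat.Sch.isFlat_of_isFinLocFree hE x

theorem isCoh_freeMod (n : ℕ) : Coh.IsCoh (FlatMod.freeMod X n) :=
  CurveCoh17.isCoh_of_ofRank (M2.isFinLocFreeOfRank_freeMod X n)

/-- `χ(F ⊗ O^n) = n χ(F)`. -/
theorem euler_tensor_free {F : X.Modules} (hF : Coh.IsCoh F) (n : ℕ) :
    Curv2.euler k X (CohB1.tensorMod (FlatMod.freeMod X n) F) = n * Curv2.euler k X F := by
  have hc : ∀ m, Coh.IsCoh (CohB1.tensorMod (FlatMod.freeMod X m) F) := fun m =>
    CurveCoh17.isCoh_tensor (isCoh_freeMod m) hF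
  induction n with
  | zero =>
    have h0 : IsZero (FlatMod.freeMod X 0) :=
      IsZero.of_iso (isZero_zero _) ⟨0, 0, Sigma.hom_ext _ _ fun i => i.elim0, (isZero_zero _).eq_of_src _ _⟩
    rw [euler_of_isZero (hc 0) ((M2.tensorR F).map_isZero h0)]
    simp
  | succ n ih =>
    have hO : Coh.IsCoh (CohB1.tensorMod (Coh.structureModule X) F) :=
      CurveCoh17.isCoh_tensor CurveCoh17.isCoh_structureModule hF
    obtain ⟨s⟩ : Nonempty (CurveCoh17.freeSC X n).Splitting :=
      ⟨{ r := Sigma.desc fun j : Fin (n + 1) => Fin.lastCases (motive := fun _ => Coh.structureModule X ⟶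
            FlatMod.freeMod X n) 0 (fun i => Sigma.ι (fun _ : Fin n => Coh.structureModule X) i) j
         s := Sigma.ι (fun _ : Fin (n + 1) => Coh.structureModule X) (Fin.last n)
         f_r := Sigma.hom_ext _ _ fun i => by simp
         s_g := P1Split.ι_proj_self _ _
         id := Sigma.hom_ext _ _ fun j => by
           refine Fin.lastCases ?_ (fun i => ?_) j
           · simp [Preadditive.comp_add, P1Split.proj]
           · simp [Preadditive.comp_add, P1Split.proj, Fin.castSucc_ne_last] }⟩
    have h := euler_add_coh (k := k) (s.map (M2.tensorR F)).shortExact (hc n) (hc (n + 1)) hO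
    change Curv2.euler k X (CohB1.tensorMod (FlatMod.freeMod X (n + 1)) F) =
      Curv2.euler k X (CohB1.tensorMod (FlatMod.freeMod X n) F) +
        Curv2.euler k X (CohB1.tensorMod (Coh.structureModule X) F) at h
    rw [h, ih, CurveCoh17.euler_iso (M2.tensorComm _ F ≪≫ M2.tensorRUnit F)]
    push_cast
    ring

variable (k) in
/-- The defect. -/
def defect (E : X.Modules) (m : ℕ) (F : X.Modules) : ℤ :=
  Curv2.euler k X (CohB1.tensorMod F E) - m * Curv2.euler k X F

variable {E : X.Modules} {m : ℕ}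

theorem defect_add (hE : FlatMod.IsFinLocFree E) (hEc : Coh.IsCoh E) {S : ShortComplex X.Modules} (hS : S.ShortExact)
    (h1 : Coh.IsCoh S.X₁) (h2 : Coh.IsCoh S.X₂) (h3 : Coh.IsCoh S.X₃) :
    defect k E m S.X₂ = defect k E m S.X₁ + defect k E m S.X₃ := by
  have hT := euler_add_coh (k := k) (CurveCoh17.shortExact_tensorR hS E (flat_stalk_of_locFree hE))
    (CurveCoh17.isCoh_tensor h1 hEc) (CurveCoh17.isCoh_tensor h2 hEc) (CurveCoh17.isCoh_tensor h3 hEc)
  have h := euler_add_coh (k := k) hS h1 h2 h3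
  change Curv2.euler k X (CohB1.tensorMod S.X₂ E) = Curv2.euler k X (CohB1.tensorMod S.X₁ E) +
    Curv2.euler k X (CohB1.tensorMod S.X₃ E) at hT
  simp only [defect]
  rw [hT, h]
  ring

theorem defect_hom (hE : FlatMod.IsFinLocFree E) (hEc : Coh.IsCoh E) {W N : X.Modules} (φ : W ⟶ N)
    (hW : Coh.IsCoh W) (hN : Coh.IsCoh N) :
    defect k E m N = defect k E m W + defect k E m (cokernel φ) - defect k E m (kernel φ) := by
  haveI : IsNoetherian X := CohFound.isNoetherian_of_isProper (X ↘ (Spec (CommRingCat.of k)))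
  have hK : Coh.IsCoh (kernel φ) := CurveCoh17.isCoh_kernel hW hN.1 φ
  have hC : Coh.IsCoh (cokernel φ) := M1.isCoh_cokernel hW.1 hN φ
  have hI : Coh.IsCoh (Abelian.image φ) := CurveCoh17.isCoh_kernel hN hC.1 _
  have e1 := defect_add (k := k) (m := m) hE hEc (CurveCoh17.kerSC_shortExact φ) hK hW hI
  have e2 := defect_add (k := k) (m := m) hE hEc (CurveCoh17.cokerSC_shortExact φ) hI hN hC
  simp only at e1 e2
  omega

theorem defect_of_support_empty (hEc : Coh.IsCoh E) {F : X.Modules} (hF : Coh.IsCoh F)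
    (h : CohB1.support F = ∅) : defect k E m F = 0 := by
  have hz := isZero_of_support_empty h
  rw [defect, euler_of_isZero hF hz, euler_of_isZero (CurveCoh17.isCoh_tensor hF hEc) ((M2.tensorR E).map_isZero hz)]
  simp

theorem defect_iso {F F' : X.Modules} (e : F ≅ F') : defect k E m F = defect k E m F' := by
  rw [defect, defect, CurveCoh17.euler_iso e, CurveCoh17.euler_iso (M2.tensorIso e (Iso.refl E))]

/-- If the defect of every `F ⊗ E` vanishes, so does every defect. -/
theorem defect_eq_zero (hm : 0 < m) (hE : FlatMod.IsFinLocFreeOfRank m E)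
    (H : ∀ F : X.Modules, Coh.IsCoh F → defect k E m (CohB1.tensorMod F E) = 0) :
    ∀ (d : ℕ) (F : X.Modules), Coh.IsCoh F → topologicalKrullDim (CohB1.support F) ≤ (d : WithBot ℕ∞) →
      defect k E m F = 0 := by
  haveI : IsNoetherian X := CohFound.isNoetherian_of_isProper (X ↘ (Spec (CommRingCat.of k)))
  have hsep : X.IsSeparated := CurveAmple18.isSeparated k X
  have hE' := M2.isFinLocFree_of_ofRank hE
  have hEc := CurveCoh17.isCoh_of_ofRank hE
  intro d
  induction d using Nat.strong_induction_on with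
  | _ d IH =>
  intro F hF hdim
  have h23 : TwoOfThreeOn (fun M : X.Modules => defect k E m M = 0) (CohB1.support F) :=
    { of_isZero := fun M hM hz => defect_of_support_empty hEc hM (Set.eq_empty_of_forall_notMem fun x hx =>
        hx (AddCommGrpCat.subsingleton_of_isZero ((M1.stalkAb x).map_isZero hz)))
      mid := fun S hS h1 h2 h3 _ p1 p3 => by
        have := defect_add (k := k) (m := m) hE' hEc hS h1 h2 h3; omega
      left := fun S hS h1 h2 h3 _ p2 p3 => by
        have := defect_add (k := k) (m := m) hE' hEc hS h1 h2 h3; omega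
      right := fun S hS h1 h2 h3 _ p1 p2 => by
        have := defect_add (k := k) (m := m) hE' hEc hS h1 h2 h3; omega }
  refine h23.holds (fun η hη => ?_) hF subset_rfl
  obtain ⟨Z, i, hi, hZ, hr, hηi, -⟩ := exists_integral_point η
  haveI : IsLocallyNoetherian Z := LocallyOfFiniteType.isLocallyNoetherian i
  subst hηi
  obtain ⟨g, hg, hgen, hkill⟩ := exists_cyclic_push_structureModule i
  let G := (Scheme.Modules.pushforward i).obj (Coh.structureModule Z)
  have hG : Coh.IsCoh G := isCoh_push_closedImm i (M1.isCoh_structureModule Z)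
  have hGs : CohB1.support G ⊆ closure {i (genericPoint Z)} := (support_push_subset i _).trans hr.le
  refine ⟨HasModel.ofCyclic (fun M N h p => (defect_iso h.some).symm.trans p) G hG hGs g hg hgen hkill ?_⟩
  have hdη : topologicalKrullDim (closure ({i (genericPoint Z)} : Set X)) ≤ (d : WithBot ℕ∞) :=
    dim_le_of_subset ((M1.isClosed_support hF.2).closure_subset_iff.2 (Set.singleton_subset_iff.2 hη)) hdim
  have hfree := isCoh_freeMod (X := X) m
  have hG1 : Coh.IsCoh (CohB1.tensorMod G E) := CurveCoh17.isCoh_tensor hG hEc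
  have hG2 : Coh.IsCoh (CohB1.tensorMod G (FlatMod.freeMod X m)) := CurveCoh17.isCoh_tensor hG hfree
  obtain ⟨V, hηV, ⟨eV⟩⟩ := hE (i (genericPoint Z))
  obtain ⟨U, hU, hηU, hUV⟩ := exists_isAffineOpen_mem_and_subset (U := V) hηV
  obtain ⟨eU⟩ := M2.nonempty_free_mono hUV eV
  obtain ⟨W, φ, ψ, hW, k1, c1, k2, c2⟩ := exists_zigzag hsep hG1 hG2 ((support_tensor_subset G _).trans hGs)
    ((support_tensor_subset G _).trans hGs) hU hηU
    (M2.restrictTensorIso U.ι G (FlatMod.freeMod X m) ≪≫
      M2.tensorIso (Iso.refl _) (M2.freeModRestrictIso U.ι m ≪≫ eU.symm) ≪≫ (M2.restrictTensorIso U.ι G E).symm)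
  have hC : IsClosed (closure {i (genericPoint Z)} \ (U : Set X)) := isClosed_closure.sdiff U.isOpen
  have hsmall : ∀ M : X.Modules, Coh.IsCoh M → CohB1.support M ⊆ closure {i (genericPoint Z)} \ (U : Set X) →
      defect k E m M = 0 := fun M hM hs => by
    rcases d with _ | d'
    · exact defect_of_support_empty hEc hM (Set.subset_empty_iff.1 (hs.trans
        (eq_empty_of_notMem hC Set.sdiff_subset (fun h => h.2 hηU) (by simpa using hdη)).le))
    · exact IH d' (Nat.lt_succ_self _) M hM
        (dim_le_of_subset hs (dim_le_of_notMem hC Set.sdiff_subset (fun h => h.2 hηU) hdη))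
  have a1 := defect_hom (k := k) (m := m) hE' hEc φ hW hG1
  have a2 := defect_hom (k := k) (m := m) hE' hEc ψ hW hG2
  rw [H G hG, hsmall _ (M1.isCoh_cokernel hW.1 hG1 φ) c1, hsmall _ (CurveCoh17.isCoh_kernel hW hG1.1 φ) k1] at a1
  rw [hsmall _ (M1.isCoh_cokernel hW.1 hG2 ψ) c2, hsmall _ (CurveCoh17.isCoh_kernel hW hG2.1 ψ) k2] at a2
  have a3 : defect k E m (CohB1.tensorMod G (FlatMod.freeMod X m)) = m * defect k E m G := by
    rw [defect, defect, CurveCoh17.euler_iso (M2.tensorIso (M2.tensorComm G (FlatMod.freeMod X m)) (Iso.refl E) ≪≫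
        M2.tensorAssoc _ _ _), euler_tensor_free (CurveCoh17.isCoh_tensor hG hEc),
      CurveCoh17.euler_iso (M2.tensorComm G (FlatMod.freeMod X m)), euler_tensor_free hG]
    ring
  have h0 : (m : ℤ) * defect k E m G = 0 := by omega
  exact (mul_eq_zero.1 h0).resolve_left (by exact_mod_cast hm.ne')

end Groth.Agent.ChiTwist22
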