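import Groth.Agent.Lib.MumVan22.PushShear
import Groth.Agent.Lib.MumVan22.ChiTwist
import Groth.Agent.Lib.ResDesc11.Basic

/-!
# `χ(f^*F) = deg f · χ(F)` for finite flat maps of abelian varieties
-/

universe u

open CategoryTheory Limits MonoidalCategory CartesianMonoidalCategory AlgebraicGeometry TopologicalSpace Opposite
open scoped MonObj GrpObj

set_option linter.style.haveILetI false
set_option linter.unusedSectionVars false
set_option maxHeartbeats 1000000
set_option backward.isDefEq.respectTransparency false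

noncomputable section

namespace Groth.Agent.IsogEuler22

open Groth.Agent CurveCoh17

variable {k : Type u} [Field k] {X Y : Over (Spec (CommRingCat.of k))} [GrpObj X] [GrpObj Y]
  [IsProper X.hom] [GeometricallyIntegral X.hom] [IsProper Y.hom] [GeometricallyIntegral Y.hom]

/-- The fibre product of `g` with `f`. -/
abbrev W (f g : X ⟶ Y) : Over (Spec (CommRingCat.of k)) := Over.mk (pullback.fst g.left f.left ≫ X.hom)

abbrev W.p (f g : X ⟶ Y) : W f g ⟶ X := Over.homMk (pullback.fst g.left f.left) rfl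

abbrev W.q (f g : X ⟶ Y) : W f g ⟶ X := Over.homMk (pullback.snd g.left f.left) (by
  show pullback.snd g.left f.left ≫ X.hom = pullback.fst g.left f.left ≫ X.hom
  rw [← Over.w f, ← pullback.condition_assoc, Over.w g, Over.w f])

theorem W.condition (f g : X ⟶ Y) : W.p f g ≫ g = W.q f g ≫ f := Over.OverMorphism.ext pullback.condition

theorem W.ext (f g : X ⟶ Y) {V : Over (Spec (CommRingCat.of k))} {a b : V ⟶ W f g}
    (h₁ : a ≫ W.p f g = b ≫ W.p f g) (h₂ : a ≫ W.q f g = b ≫ W.q f g) : a = b :=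
  Over.OverMorphism.ext (pullback.hom_ext (congrArg CommaMorphism.left h₁) (congrArg CommaMorphism.left h₂))

theorem W.exists_lift (f g : X ⟶ Y) {V : Over (Spec (CommRingCat.of k))} (a b : V ⟶ X) (h : a ≫ g = b ≫ f) :
    ∃ l : V ⟶ W f g, l ≫ W.p f g = a ∧ l ≫ W.q f g = b := by
  refine ⟨Over.homMk (pullback.lift a.left b.left (congrArg CommaMorphism.left h)) ?_, ?_, ?_⟩
  · show _ ≫ pullback.fst g.left f.left ≫ X.hom = V.hom
    rw [pullback.lift_fst_assoc, Over.w a]
  · exact Over.OverMorphism.ext (pullback.lift_fst _ _ _)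
  · exact Over.OverMorphism.ext (pullback.lift_snd _ _ _)

/-- The shear. -/
theorem exists_shear (f : X ⟶ Y) :
    ∃ e : W f (toUnit X ≫ η[X] ≫ f) ⟶ W f f, IsIso e ∧
      e ≫ W.p f f = W.p f (toUnit X ≫ η[X] ≫ f) := by
  haveI := isCommMonObj_of_isProper_of_geometricallyIntegral Y
  haveI : Smooth X.hom :=
    @smooth_of_grpObj k _ _ X.hom _ (show GrpObj (Over.mk X.hom) from ‹GrpObj X›) _
  set c := η[X] ≫ f with hc
  let h := f * (toUnit X ≫ c)⁻¹
  have hone : η[X] ≫ h = η[Y] := by
    rw [MonObj.comp_mul, GrpObj.comp_inv, comp_toUnit_assoc, toUnit_unique (toUnit _) (𝟙 _), Category.id_comp, ← hc,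
      mul_inv_cancel, Hom.one_def, toUnit_unique (toUnit _) (𝟙 _), Category.id_comp]
  haveI : IsMonHom h := RatMapAV.isMonHom_of_smooth X Y h hone
  have hf : ∀ {V : Over (Spec (CommRingCat.of k))} (a : V ⟶ X), a ≫ f = (a ≫ h) * (toUnit V ≫ c) := fun a => by
    rw [MonObj.comp_mul, GrpObj.comp_inv, comp_toUnit_assoc, inv_mul_cancel_right]
  set g₀ := toUnit X ≫ c with hg₀
  let p₀ := W.p f g₀
  let q₀ := W.q f g₀
  have hq₀ : q₀ ≫ h = 1 := by
    have := (W.condition f g₀).symm
    rw [hf, hg₀, comp_toUnit_assoc] at this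
    exact mul_eq_right.1 this
  obtain ⟨e, he1, he2⟩ := W.exists_lift f f p₀ (p₀ * q₀) (by
    rw [hf p₀, hf (p₀ * q₀), MonObj.mul_comp, hq₀, _root_.mul_one])
  let p₁ := W.p f f
  let q₁ := W.q f f
  have hq₁ : q₁ ≫ h = p₁ ≫ h := by
    have := (W.condition f f).symm
    rw [hf, hf] at this
    exact mul_right_cancel this
  obtain ⟨d, hd1, hd2⟩ := W.exists_lift f g₀ p₁ (p₁⁻¹ * q₁) (by
    rw [hg₀, comp_toUnit_assoc, hf (p₁⁻¹ * q₁), MonObj.mul_comp, GrpObj.inv_comp, hq₁, inv_mul_cancel,
      _root_.one_mul])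
  refine ⟨e, ⟨d, W.ext _ _ ?_ ?_, W.ext _ _ ?_ ?_⟩, he1⟩
  · rw [Category.assoc, hd1, Category.id_comp]; exact he1
  · rw [Category.assoc, hd2, Category.id_comp, MonObj.comp_mul, GrpObj.comp_inv, he1, he2, inv_mul_cancel_left]
  · rw [Category.assoc, he1, Category.id_comp]; exact hd1
  · rw [Category.assoc, he2, Category.id_comp, MonObj.comp_mul, hd1, hd2, mul_inv_cancel_left]

/-- `f^* f_* O` is free of rank the degree. -/
theorem exists_free (f : X ⟶ Y) [IsFinite f.left] [Flat f.left] :
    ∃ m : ℕ, (∀ y : Y.left, f.left.finrank y = m) ∧ FlatMod.IsFinLocFreeOfRank m (pushO f.left) ∧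
      Nonempty ((Scheme.Modules.pullback f.left).obj (pushO f.left) ≅ FlatMod.freeMod X.left m) := by
  haveI : IsLocallyNoetherian Y.left := LocallyOfFiniteType.isLocallyNoetherian Y.hom
  haveI : LocallyOfFinitePresentation f.left := {
    finitePresentation_appLE := fun {U} hU {V} hV le =>
      haveI := IsLocallyNoetherian.component_noetherian (X := Y.left) ⟨U, hU⟩
      RingHom.FinitePresentation.of_finiteType.mp (f.left.finiteType_appLE hU hV le) }
  haveI : IsIntegral Y.left := GeometricallyIntegral.isIntegral_of_subsingleton Y.hom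
  obtain ⟨m, hm⟩ := VB17.exists_rank_of_isFinLocFree (isFinLocFree_pushO f.left)
  let c := η[X] ≫ f
  let y₀ : Y.left := c.left (IsLocalRing.closedPoint k)
  obtain ⟨V, hy₀, ⟨eV⟩⟩ := hm y₀
  have hcV : ∀ t : Spec (CommRingCat.of k), c.left t ∈ V := fun t => by
    rw [Subsingleton.elim (α := Spec (CommRingCat.of k)) t (IsLocalRing.closedPoint k)]; exact hy₀
  obtain ⟨i1⟩ := PushShear22.nonempty_pull_free eV c.left hcV
  obtain ⟨i2⟩ := PushShear22.nonempty_pull_pushO f.left c.left
  have hfin := PushShear22.rank_eq_finrank (pullback.fst c.left f.left) (i2.symm ≪≫ i1)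
  rw [Scheme.Hom.finrank_pullback_fst] at hfin
  refine ⟨m, fun y => ?_, hm, ?_⟩
  · haveI : IrreducibleSpace Y.left := inferInstance
    rw [← hfin]
    exact (Scheme.Hom.isLocallyConstant_finrank f.left).apply_eq_of_preconnectedSpace _ _
  · obtain ⟨e, he, hep⟩ := exists_shear f
    haveI := he
    haveI : IsIso e.left := inferInstanceAs (IsIso ((Over.forget _).map e))
    obtain ⟨i3⟩ := PushShear22.nonempty_pull_free eV (toUnit X ≫ c).left (fun t => hcV _)
    obtain ⟨i4⟩ := PushShear22.nonempty_pull_pushO f.left (toUnit X ≫ c).left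
    obtain ⟨i5⟩ := PushShear22.nonempty_pull_pushO f.left f.left
    obtain ⟨i6⟩ := PushShear22.nonempty_pushO_iso e.left (pullback.fst (toUnit X ≫ c).left f.left)
      (pullback.fst f.left f.left) (congrArg CommaMorphism.left hep)
    exact ⟨i5 ≪≫ i6 ≪≫ i4.symm ≪≫ i3⟩

/-- The Euler characteristic is multiplicative. -/
theorem euler_pullback (f : X ⟶ Y) [IsFinite f.left] [Flat f.left] (d : ℕ) (hd : ∀ y : Y.left, f.left.finrank y = d)
    {F : Y.left.Modules} (hF : Coh.IsCoh F) :
    @Curv2.euler k _ X.left ⟨X.hom⟩ ((Scheme.Modules.pullback f.left).obj F) =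
      (d : ℤ) * @Curv2.euler k _ Y.left ⟨Y.hom⟩ F := by
  letI : X.left.Over (Spec (CommRingCat.of k)) := ⟨X.hom⟩
  letI : Y.left.Over (Spec (CommRingCat.of k)) := ⟨Y.hom⟩
  haveI : IsProper (X.left ↘ Spec (CommRingCat.of k)) := inferInstanceAs (IsProper X.hom)
  haveI : IsProper (Y.left ↘ Spec (CommRingCat.of k)) := inferInstanceAs (IsProper Y.hom)
  haveI : IsLocallyNoetherian Y.left := LocallyOfFiniteType.isLocallyNoetherian Y.hom
  obtain ⟨m, hm, hE, ⟨ifree⟩⟩ := exists_free f
  obtain rfl : m = d := by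
    obtain ⟨y⟩ : Nonempty Y.left :=
      haveI : IsIntegral Y.left := GeometricallyIntegral.isIntegral_of_subsingleton Y.hom
      inferInstance
    rw [← hm y, hd y]
  set E := pushO f.left
  have hEc := CurveCoh17.isCoh_of_ofRank hE
  have key : ∀ G : Y.left.Modules, Coh.IsCoh G →
      Curv2.euler k X.left ((Scheme.Modules.pullback f.left).obj G) = Curv2.euler k Y.left (CohB1.tensorMod G E) := by
    intro G hG
    haveI := hG.1
    haveI := ResDesc11.isIso_proj f.left G
    rw [CurveCoh17.euler_iso (CategoryTheory.asIso (ResDesc11.proj f.left G))]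
    haveI : ((Scheme.Modules.pullback f.left).obj G).IsQuasicoherent := M1.isQCoh_pullback f.left hG.1
    refine finsum_congr fun n => ?_
    obtain ⟨e⟩ := nonempty_hequiv_push k f.left (Over.w f) ((Scheme.Modules.pullback f.left).obj G) n
    rw [e.finrank_eq]
  have hH : ∀ G : Y.left.Modules, Coh.IsCoh G → ChiTwist22.defect k E m (CohB1.tensorMod G E) = 0 := by
    intro G hG
    have hGE := CurveCoh17.isCoh_tensor hG hEc
    have hGX : Coh.IsCoh ((Scheme.Modules.pullback f.left).obj G) := M1.isCoh_pullback f.left hG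
    rw [ChiTwist22.defect, ← key _ hGE, ← key _ hG,
      CurveCoh17.euler_iso (M2.pullTensorIso f.left G E ≪≫ M2.tensorComm _ _ ≪≫ M2.tensorIso ifree (Iso.refl _)),
      ChiTwist22.euler_tensor_free hGX, sub_self]
  rw [key F hF]
  rcases Nat.eq_zero_or_pos m with h0 | h0
  · exact absurd h0 (by
      have := Scheme.Hom.one_le_finrank_map f.left (η[X].left (IsLocalRing.closedPoint k))
      rw [hd] at this
      omega)
  obtain ⟨g, hg⟩ : ∃ g : ℕ, topologicalKrullDim (CohB1.support F) ≤ (g : WithBot ℕ∞) := by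
    haveI : IsIntegral Y.left := GeometricallyIntegral.isIntegral_of_subsingleton Y.hom
    obtain ⟨g, hg⟩ : ∃ g : ℕ, topologicalKrullDim Y.left = g := ⟨_, VarDim.dim_eq_sdim_genericPoint Y.hom⟩
    exact ⟨g, Topology.IsInducing.subtypeVal.topologicalKrullDim_le.trans hg.le⟩
  have := ChiTwist22.defect_eq_zero (k := k) h0 hE hH g F hF hg
  rw [ChiTwist22.defect] at this
  linarith

end Groth.Agent.IsogEuler22
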