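import Groth.Agent.Lib.MumVan22.Surj
import Groth.Agent.Lib.CubeField.AmpleExists

/-!
# Consequences of the surjectivity of `φ_L`
-/

universe u

open CategoryTheory Limits MonoidalCategory CartesianMonoidalCategory AlgebraicGeometry TopologicalSpace Opposite
open scoped MonObj GrpObj

set_option linter.style.haveILetI false
set_option linter.unusedSectionVars false
set_option backward.isDefEq.respectTransparency false

noncomputable section

namespace Groth.Agent.MumVan22

open AlgEquiv22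

noncomputable local instance instLawMVA (Y : Scheme.{u}) : PicGrp.Law Y := M2.law Y

variable {k : Type u} [Field k] [IsAlgClosed k] {A : Over (Spec (CommRingCat.of k))} [GrpObj A] [IsProper A.hom]
  [GeometricallyIntegral A.hom]

theorem inv_of_statement {M : A.left.Modules} (hM : PicF.IsInvertible M)
    (h : ∀ x : 𝟙_ (Over (Spec (CommRingCat.of k))) ⟶ A,
      Nonempty ((Scheme.Modules.pullback (𝟙 A * (toUnit A ≫ x)).left).obj M ≅ M)) : Inv (PicGrp.cls M hM) := fun a => by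
  rw [pb, PicGrp.pullHom_cls]
  exact (PicGrp.cls_eq_cls_iff _ _).2 (h a)

theorem finite_of_statement {L : A.left.Modules} (hL : PicF.IsInvertible L)
    (h : Set.Finite {x : 𝟙_ (Over (Spec (CommRingCat.of k))) ⟶ A |
      Nonempty ((Scheme.Modules.pullback (𝟙 A * (toUnit A ≫ x)).left).obj L ≅ L)}) :
    {a : 𝟙_ (Over (Spec (CommRingCat.of k))) ⟶ A | pb (𝟙 A * (toUnit A ≫ a)) (PicGrp.cls L hL) = PicGrp.cls L hL}.Finite :=
  h.subset fun a ha => by
    rw [Set.mem_setOf_eq, pb, PicGrp.pullHom_cls] at ha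
    exact (PicGrp.cls_eq_cls_iff _ _).1 ha

/-- The translate in module form. -/
theorem exists_translate_tensor {L M : A.left.Modules} (hL : PicF.IsInvertible L) (hM : PicF.IsInvertible M)
    (hInv : Inv (PicGrp.cls M hM))
    (hnd : {a : 𝟙_ (Over (Spec (CommRingCat.of k))) ⟶ A |
      pb (𝟙 A * (toUnit A ≫ a)) (PicGrp.cls L hL) = PicGrp.cls L hL}.Finite) :
    ∃ a : 𝟙_ (Over (Spec (CommRingCat.of k))) ⟶ A,
      Nonempty (CohB1.tensorMod M L ≅ (Scheme.Modules.pullback (𝟙 A * (toUnit A ≫ a)).left).obj L) := by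
  obtain ⟨a, ha⟩ := exists_translate hL hM hInv hnd
  refine ⟨a, (PicGrp.cl_eq_cl_iff _ _).1 ?_⟩
  rw [mul_inv_eq_iff_eq_mul, pb, PicGrp.pullHom_cls] at ha
  have h := congrArg Subtype.val ha
  rw [PicGrp.cls_val, PicGrp.mul_val, PicGrp.cls_val, PicGrp.cls_val, PicGrp.mulCl_cl] at h
  exact h.symm

/-- A translate differs from the module by a class algebraically equivalent to zero. -/
theorem isAlgEquivZero_translate {L N : A.left.Modules} (hL : PicF.IsInvertible L) (hN : PicF.IsInvertible N)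
    (a : 𝟙_ (Over (Spec (CommRingCat.of k))) ⟶ A)
    (h : pb (𝟙 A * (toUnit A ≫ a)) (PicGrp.cls L hL) * (PicGrp.cls L hL)⁻¹ = PicGrp.cls N hN) :
    letI : A.left.Over (Spec (CommRingCat.of k)) := ⟨A.hom⟩
    Pic13.IsAlgEquivZero k A.left N := by
  letI : A.left.Over (Spec (CommRingCat.of k)) := ⟨A.hom⟩
  obtain ⟨M, hM, hc⟩ := PicGrp.exists_eq_cls
    (pb (fst A A * snd A A) (PicGrp.cls L hL) * (pb (fst A A) (PicGrp.cls L hL))⁻¹)
  haveI : IsIntegral A.left := GeometricallyIntegral.isIntegral_of_subsingleton A.hom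
  have hs : ∀ t : 𝟙_ (Over (Spec (CommRingCat.of k))) ⟶ A, pb (sl A t) (PicGrp.cls M hM) =
      pb (𝟙 A * (toUnit A ≫ t)) (PicGrp.cls L hL) * (PicGrp.cls L hL)⁻¹ := fun t => by
    simp only [← hc, map_mul, map_inv, pb_pb, MonObj.comp_mul, lift_fst, lift_snd, pb_id]
  have es : ∀ (s : 𝟙_ (Over (Spec (CommRingCat.of k))) ⟶ A) (hs' : s.left ≫ A.hom = 𝟙 _),
      Pic13.sliceAt k A.left A.hom s.left hs' = (sl A s).left := fun s hs' => by
    apply pullback.hom_ext
    · exact (pullback.lift_fst _ _ _).trans (congrArg CommaMorphism.left (lift_fst (𝟙 A) _)).symm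
    · exact (pullback.lift_snd _ _ _).trans ((congrArg CommaMorphism.left (lift_snd (𝟙 A) (toUnit A ≫ s))).trans
        (show (toUnit A).left ≫ s.left = A.hom ≫ s.left by rw [Over.toUnit_left])).symm
  let e : 𝟙_ (Over (Spec (CommRingCat.of k))) ⟶ A := 1
  have h1 : Nonempty (Pic13.fibreMod k A.left A.hom a.left (Over.w a) M ≅ N) := by
    have h' := hs a
    rw [h, pb, PicGrp.pullHom_cls] at h'
    obtain ⟨i⟩ := (PicGrp.cls_eq_cls_iff _ _).1 h'
    exact ⟨(Scheme.Modules.pullbackCongr (es a (Over.w a))).app M ≪≫ i⟩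
  have h2 : Nonempty (Pic13.fibreMod k A.left A.hom e.left (Over.w e) M ≅ Coh.structureModule A.left) := by
    have h' := hs e
    rw [MonObj.comp_one, _root_.mul_one, pb_id, mul_inv_cancel, pb, PicGrp.pullHom_cls, PicGrp.cls_eq_one_iff] at h'
    obtain ⟨i⟩ := h'
    exact ⟨(Scheme.Modules.pullbackCongr (es e (Over.w e))).app M ≪≫ i⟩
  exact ⟨A.left, A.hom, inferInstance, inferInstance, inferInstance, M, hM, a.left, e.left, Over.w a, Over.w e, h1, h2⟩

/-- Translation invariant classes are algebraically equivalent to zero. -/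
theorem isAlgEquivZero_of_inv {M : A.left.Modules} (hM : PicF.IsInvertible M) (hInv : Inv (PicGrp.cls M hM)) :
    letI : A.left.Over (Spec (CommRingCat.of k)) := ⟨A.hom⟩
    Pic13.IsAlgEquivZero k A.left M := by
  obtain ⟨L, hL⟩ := CubeField.exists_isAmple (A := A)
  obtain ⟨a, ha⟩ := exists_translate hL.1 hM hInv (finite_fixing hL)
  exact isAlgEquivZero_translate hL.1 hM a ha

/-- Rational points are divisible. -/
theorem exists_root {n : ℕ} (hn : 1 ≤ n) (a : 𝟙_ (Over (Spec (CommRingCat.of k))) ⟶ A) :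
    ∃ b : 𝟙_ (Over (Spec (CommRingCat.of k))) ⟶ A, b ^ n = a := by
  obtain ⟨hf, hs⟩ := CubeField.isFinite_surjective_pow (A := A) CubeField.finH1 hn
  haveI := hs
  haveI : JacobsonSpace A.left := LocallyOfFiniteType.jacobsonSpace A.hom
  obtain ⟨z, hz⟩ := (𝟙 A ^ n).left.surjective (CubeField.rpt a)
  obtain ⟨x, hx, hxc⟩ := nonempty_inter_closedPoints (Z := (𝟙 A ^ n).left ⁻¹' {CubeField.rpt a}) ⟨z, hz⟩
    ((isClosed_rpt a).preimage (𝟙 A ^ n).left.continuous).isLocallyClosed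
  obtain ⟨b, rfl⟩ := CubeField.exists_rpt (X := A) hxc
  refine ⟨b, CubeField.rpt_injective ?_⟩
  rw [show b ^ n = b ≫ (𝟙 A ^ n) by rw [MonObj.comp_pow, Category.comp_id], CubeField.rpt_comp]
  exact hx

/-- A class with a translation invariant power is translation invariant. -/
theorem inv_of_pow {c : PicLoc.PicSet A.left} {n : ℕ} (hn : 1 ≤ n) (h : Inv (c ^ n)) : Inv c := fun a => by
  haveI := isCommMonObj_of_isProper_of_geometricallyIntegral A
  let φ : (𝟙_ (Over (Spec (CommRingCat.of k))) ⟶ A) → PicLoc.PicSet A.left :=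
    fun b => pb (𝟙 A * (toUnit A ≫ b)) c * c⁻¹
  have hmul : ∀ b b', φ (b * b') = φ b * φ b' := fun b b' => by
    have h1 := inv_translate_div c b' b
    rw [map_mul, map_inv, pb_pb, show (𝟙 A * (toUnit A ≫ b)) ≫ (𝟙 A * (toUnit A ≫ b')) = 𝟙 A * (toUnit A ≫ (b * b')) by
      rw [MonObj.comp_mul, Category.comp_id, comp_toUnit_assoc, _root_.mul_assoc, ← MonObj.comp_mul],
      mul_inv_eq_iff_eq_mul] at h1
    simp only [φ, h1]
    rw [mul_comm (pb (𝟙 A * (toUnit A ≫ b')) c * c⁻¹), _root_.mul_assoc, _root_.mul_assoc]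
    ac_rfl
  have hpow : ∀ (b : 𝟙_ (Over (Spec (CommRingCat.of k))) ⟶ A) (m : ℕ), φ (b ^ m) = φ b ^ m := fun b m => by
    induction m with
    | zero => simp [φ, pb_id]
    | succ m ih => rw [pow_succ, pow_succ, hmul, ih]
  obtain ⟨b, rfl⟩ := exists_root hn a
  have h2 : φ b ^ n = 1 := by
    have h3 := h b
    rw [map_pow] at h3
    simp only [φ, _root_.mul_pow, h3, _root_.inv_pow, mul_inv_cancel]
  have h4 := hpow b n
  rw [h2] at h4
  exact mul_inv_eq_one.1 h4

theorem statement_of_pow {L : A.left.Modules} (hL : PicF.IsInvertible L) {n : ℕ} (hn : 0 < n)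
    (h : Inv (PicGrp.cls (CohB1.tensorPow L n) (M2.isInvertible_tensorPow hL n)))
    (a : 𝟙_ (Over (Spec (CommRingCat.of k))) ⟶ A) :
    Nonempty ((Scheme.Modules.pullback (𝟙 A * (toUnit A ≫ a)).left).obj L ≅ L) := by
  have e : PicGrp.cls (CohB1.tensorPow L n) (M2.isInvertible_tensorPow hL n) = PicGrp.cls L hL ^ n :=
    Subtype.ext (by rw [PicGrp.cls_pow_val, PicGrp.cls_val])
  have h1 := inv_of_pow hn (e ▸ h) a
  rw [pb, PicGrp.pullHom_cls] at h1
  exact (PicGrp.cls_eq_cls_iff _ _).1 h1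

theorem isAlgEquivZero_pow_one {L : A.left.Modules} (hL : PicF.IsInvertible L) (h : Inv (PicGrp.cls L hL)) :
    letI : A.left.Over (Spec (CommRingCat.of k)) := ⟨A.hom⟩
    Pic13.IsAlgEquivZero k A.left (CohB1.tensorPow L 1) := by
  refine isAlgEquivZero_of_inv (M2.isInvertible_tensorPow hL 1) ?_
  have e : PicGrp.cls (CohB1.tensorPow L 1) (M2.isInvertible_tensorPow hL 1) = PicGrp.cls L hL :=
    (PicGrp.cls_eq_cls_iff _ _).2 ⟨M2.tensorPowOne L⟩
  rw [e]
  exact h

/-- The transpose of a finite homomorphism is surjective. -/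
theorem exists_pullback_eq {B : Over (Spec (CommRingCat.of k))} [GrpObj B] [IsProper B.hom]
    [GeometricallyIntegral B.hom] (α : A ⟶ B) [IsMonHom α] [IsFinite α.left] {M : A.left.Modules}
    (hM : PicF.IsInvertible M) (hInv : Inv (PicGrp.cls M hM)) :
    letI : B.left.Over (Spec (CommRingCat.of k)) := ⟨B.hom⟩
    ∃ N : B.left.Modules, PicF.IsInvertible N ∧ Pic13.IsAlgEquivZero k B.left N ∧
      Nonempty ((Scheme.Modules.pullback α.left).obj N ≅ M) := by
  obtain ⟨L, hL⟩ := CubeField.exists_isAmple (A := B)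
  have hL' : CohB1.IsAmple ((Scheme.Modules.pullback α.left).obj L) := Amp.isAmple_pullback_of_isAffineHom _ hL
  obtain ⟨a, ha⟩ := exists_translate hL'.1 hM hInv (finite_fixing hL')
  obtain ⟨N, hN, hc⟩ := PicGrp.exists_eq_cls
    (pb (𝟙 B * (toUnit B ≫ a ≫ α)) (PicGrp.cls L hL.1) * (PicGrp.cls L hL.1)⁻¹)
  refine ⟨N, hN, isAlgEquivZero_translate hL.1 hN (a ≫ α) hc, ?_⟩
  have e : pb α (PicGrp.cls N hN) = PicGrp.cls M hM := by
    rw [← hc, ← ha, map_mul, map_inv, pb_pb, MonObj.comp_mul, Category.comp_id, comp_toUnit_assoc,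
      show PicGrp.cls _ hL'.1 = pb α (PicGrp.cls L hL.1) from (PicGrp.pullHom_cls _ _ _ _).symm, pb_pb,
      MonObj.mul_comp, Category.id_comp, Category.assoc]
  rw [pb, PicGrp.pullHom_cls] at e
  exact (PicGrp.cls_eq_cls_iff _ _).1 e

end Groth.Agent.MumVan22
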