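import Groth.Agent.Lib.MumVan22.Surj
import Groth.Agent.Lib.DGen9.FibEuler
import Groth.Agent.Lib.CBC10.FieldBC
import Groth.Prelude.Def_CurvBase

/-!
# Euler characteristics of the slices of a family
-/

universe u

open CategoryTheory Limits MonoidalCategory CartesianMonoidalCategory AlgebraicGeometry TopologicalSpace Opposite
open scoped MonObj GrpObj

set_option linter.style.haveILetI false
set_option linter.unusedSectionVars false
set_option maxHeartbeats 1000000
set_option backward.isDefEq.respectTransparency false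

noncomputable section

namespace Groth.Agent.MumVan22

open Groth.Agent.CBC10

variable {k : Type u} [Field k] [IsAlgClosed k] {A T P : Over (Spec (CommRingCat.of k))}

/-- The Euler characteristic of a slice is that of the fibre. -/
theorem euler_slice [LocallyOfFiniteType T.hom] (f : P ⟶ T) [IsProper f.left] (s : A ⟶ P)
    (t : 𝟙_ (Over (Spec (CommRingCat.of k))) ⟶ T)
    (hpb : IsPullback s.left A.hom f.left t.left) {F : P.left.Modules} (hF : Coh.IsCoh F)
    (hfl : FlatMod.IsFlatOver f.left F) :
    @Curv2.euler k _ A.left ⟨A.hom⟩ ((Scheme.Modules.pullback s.left).obj F) =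
      PerfAux.eulerChar f.left F (CubeField.rpt t) := by
  letI : A.left.Over (Spec (CommRingCat.of k)) := ⟨A.hom⟩
  haveI : IsLocallyNoetherian T.left := LocallyOfFiniteType.isLocallyNoetherian T.hom
  let g : Spec (CommRingCat.of k) ⟶ T.left := t.left
  have hg : g ≫ T.hom = 𝟙 _ := Over.w t
  let x := CubeField.rpt t
  have hxc : IsClosed ({x} : Set T.left) := by
    haveI : LocallyOfFiniteType (g ≫ T.hom) := by rw [hg]; infer_instance
    haveI : LocallyOfFiniteType g := locallyOfFiniteType_of_comp g T.hom
    haveI : JacobsonSpace T.left := LocallyOfFiniteType.jacobsonSpace T.hom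
    exact g.closePoints_subset_preimage_closedPoints (isClosed_discrete (α := Spec (CommRingCat.of k)) _)
  let r := residueFieldIsoBase T.hom x hxc
  have hgr : g = Spec.map r.hom ≫ T.left.fromSpecResidueField x := by
    refine ext_of_apply_closedPoint_eq T.hom hg ?_ ?_
    · rw [Category.assoc, ← SpecMap_residueFieldIsoBase_inv T.hom x hxc, ← Spec.map_comp, Iso.inv_hom_id, Spec.map_id]
    · rw [Scheme.Hom.comp_apply, Scheme.fromSpecResidueField_apply]
      rfl
  obtain ⟨U, hU, hxU, -⟩ := exists_isAffineOpen_mem_and_subset (X := T.left) (x := x) (U := ⊤) trivial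
  obtain ⟨C, h1, h2, -, -, hP⟩ := CBC10.exists_complexOn (f := f.left) hF hfl hU
  haveI := h1
  haveI := h2
  let φ := T.left.evaluation U x hxU ≫ r.hom
  letI : Algebra Γ(T.left, U) k := φ.hom.toAlgebra
  have hφ : g = Spec.map (CommRingCat.ofHom (algebraMap Γ(T.left, U) k)) ≫ hU.fromSpec := by
    rw [hgr, fromSpecResidueField_eq (hU := hU) hxU, ← Category.assoc, ← Spec.map_comp]
    rfl
  have h : IsPullback s.left (A.left ↘ Spec (CommRingCat.of k)) f.left
      (Spec.map (CommRingCat.ofHom (algebraMap Γ(T.left, U) k)) ≫ hU.fromSpec) := by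
    rw [← hφ]; exact hpb
  refine finsum_congr fun p => congrArg (fun n : ℕ => (-1 : ℤ) ^ p * (n : ℤ)) ?_
  rw [hP.finrank_bc_field hF.1 (B := k) (X' := A.left) h p]
  refine Eq.trans ?_ (hP.fiberRank_eq hxU hF.1 p).symm
  congr 1
  refine Eq.trans ?_ (comap_evaluation (hU := hU) hxU)
  show PrimeSpectrum.comap (r.hom.hom.comp (T.left.evaluation U x hxU).hom) _ = _
  rw [PrimeSpectrum.comap_comp_apply]
  congr 1
  exact PrimeSpectrum.ext ((RingHom.injective_iff_ker_eq_bot _).1 (RingHom.injective _))

/-- In a family over a connected base all slices have the same Euler characteristic. -/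
theorem euler_slice_eq [LocallyOfFiniteType T.hom] [ConnectedSpace T.left] (f : P ⟶ T) [IsProper f.left]
    {F : P.left.Modules} (hF : Coh.IsCoh F) (hfl : FlatMod.IsFlatOver f.left F) (s₁ s₂ : A ⟶ P)
    (t₁ t₂ : 𝟙_ (Over (Spec (CommRingCat.of k))) ⟶ T)
    (h₁ : IsPullback s₁.left A.hom f.left t₁.left) (h₂ : IsPullback s₂.left A.hom f.left t₂.left) :
    @Curv2.euler k _ A.left ⟨A.hom⟩ ((Scheme.Modules.pullback s₁.left).obj F) =
      @Curv2.euler k _ A.left ⟨A.hom⟩ ((Scheme.Modules.pullback s₂.left).obj F) := by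
  haveI : IsLocallyNoetherian T.left := LocallyOfFiniteType.isLocallyNoetherian T.hom
  haveI := hF.1
  haveI : LocallyOfFinitePresentation f.left := inferInstance
  haveI : IsLocallyNoetherian P.left := LocallyOfFiniteType.isLocallyNoetherian f.left
  rw [euler_slice f s₁ t₁ h₁ hF hfl, euler_slice f s₂ t₂ h₂ hF hfl]
  exact (FibEuler9.isLocallyConstant_eulerChar f.left F (M1.isFP_of_isCoh hF) hfl).apply_eq_of_preconnectedSpace _ _

end Groth.Agent.MumVan22
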