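import Groth.Agent.Lib.Trace12.Rank
import Groth.Agent.Lib.ResDesc11.Basic
import Groth.Agent.Lib.CurveCoh17.EtaleEuler
import Groth.Agent.Lib.CBC10.Complex
import Groth.Agent.Lib.FrobTr12.Main

/-!
# Vanishing descends along finite flat maps of invertible degree
-/

set_option autoImplicit false
set_option linter.style.haveILetI false
set_option linter.unusedSectionVars false
set_option maxHeartbeats 1000000
set_option backward.isDefEq.respectTransparency false

universe u

open CategoryTheory CategoryTheory.Limits AlgebraicGeometry TopologicalSpace Opposite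

noncomputable section

namespace Groth.Agent.MumVan22

open Groth.Agent CurveCoh17

/-- The direct image algebra as a module. -/
def directImageIso {X Y : Scheme.{u}} (f : X ⟶ Y) [QuasiCompact f] [QuasiSeparated f] :
    pushO f ≅ (RelSpec.QCAlg.directImage f).toModule where
  hom := FrobTr12.mkMap (M := pushO f) (N := (RelSpec.QCAlg.directImage f).toModule)
    (fun _ a => a) (fun _ _ _ => rfl) (fun _ _ => rfl) (fun _ _ _ => rfl)
  inv := FrobTr12.mkMap (M := (RelSpec.QCAlg.directImage f).toModule) (N := pushO f)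
    (fun _ a => a) (fun _ _ _ => rfl) (fun _ _ => rfl) (fun _ _ _ => rfl)
  hom_inv_id := Scheme.Modules.hom_ext _ _ fun _ => rfl
  inv_hom_id := Scheme.Modules.hom_ext _ _ fun _ => rfl

/-- Vanishing of the pullback gives vanishing downstairs. -/
theorem subsingleton_of_pullback {k : Type u} [Field k] {X Y : Scheme.{u}} [X.Over (Spec (CommRingCat.of k))]
    [Y.Over (Spec (CommRingCat.of k))] (f : X ⟶ Y) [IsFinite f]
    (hf : f ≫ (Y ↘ Spec (CommRingCat.of k)) = X ↘ Spec (CommRingCat.of k)) {m : ℕ}
    (hE : FlatMod.IsFinLocFreeOfRank m (pushO f)) (hm : (m : k) ≠ 0) {L : Y.Modules} (hL : Coh.IsQCoh L) (p : ℕ)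
    (h : Subsingleton (Coh.HH X ((Scheme.Modules.pullback f).obj L) p)) : Subsingleton (Coh.HH Y L p) := by
  let A := RelSpec.QCAlg.directImage f
  have hA : FlatMod.IsFinLocFreeOfRank m A.toModule := fun x => by
    obtain ⟨U, hx, ⟨e⟩⟩ := hE x
    exact ⟨U, hx, ⟨(Scheme.Modules.restrictFunctor U.ι).mapIso (directImageIso f).symm ≪≫ e⟩⟩
  have hA' := Trace12.isFinLocFree_of_rank hA
  have hu : IsUnit ((m : Γ(Y, ⊤))) := by
    rw [← map_natCast (Coh.toGlobal (Y ↘ Spec (CommRingCat.of k))) m]
    exact (IsUnit.mk0 _ hm).map _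
  obtain ⟨s, hs⟩ := Trace12.exists_section_trace A hA (Trace12.traceHom A hA') (Trace12.isTrace_traceHom A hA') hu
  haveI := hL
  haveI := ResDesc11.isIso_proj f L
  haveI : ((Scheme.Modules.pullback f).obj L).IsQuasicoherent := M1.isQCoh_pullback f hL
  obtain ⟨e⟩ := nonempty_hequiv_push k f hf ((Scheme.Modules.pullback f).obj L) p
  haveI := h
  haveI h1 : Subsingleton (Coh.HH Y (CohB1.tensorMod A.toModule L) p) := by
    haveI : Subsingleton (Coh.HH Y ((Scheme.Modules.pushforward f).obj ((Scheme.Modules.pullback f).obj L)) p) :=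
      e.toEquiv.subsingleton
    exact (CBC10.hmapEquiv (M2.tensorIso (directImageIso f).symm (Iso.refl L) ≪≫ M2.tensorComm _ L ≪≫
      asIso (ResDesc11.proj f L)) p).toEquiv.subsingleton
  let a := (M2.tensorR L).map s
  let b := (M2.tensorR L).map (Trace12.traceHom A hA')
  have hab : a ≫ b = 𝟙 _ := by rw [← Functor.map_comp, hs, CategoryTheory.Functor.map_id]
  haveI : Subsingleton (Coh.HH Y (CohB1.tensorMod (Coh.structureModule Y) L) p) := by
    refine ⟨fun x y => ?_⟩
    have hx : ∀ z, hmap k b p (hmap k a p z) = z := fun z => by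
      rw [← hmap_comp, hab, hmap_id]
    rw [← hx x, ← hx y, h1.elim (hmap k a p x) (hmap k a p y)]
  exact (CBC10.hmapEquiv ((M2.tensorRUnit L).symm ≪≫ M2.tensorComm _ _) p).toEquiv.subsingleton

end Groth.Agent.MumVan22
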