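import Groth.Agent.Lib.MumVan22.RelVan
import Groth.Agent.Lib.MumVan22.IsogVanish
import Groth.Agent.Lib.MumVan22.IsogEuler
import Groth.Agent.Lib.MumVan22.EulerFam
import Groth.Agent.Lib.MumVan22.Apps
import Groth.Agent.Lib.AVDegree22.MulRank
import Groth.Agent.Lib.CohFound.ProperFinite
import Groth.Agent.Lib.AlgEquiv22.Closed

/-!
# Vanishing for ample modules on abelian varieties
-/

universe u

open CategoryTheory Limits MonoidalCategory CartesianMonoidalCategory AlgebraicGeometry TopologicalSpace Opposite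
open scoped MonObj GrpObj

set_option linter.style.haveILetI false
set_option linter.unusedSectionVars false
set_option maxHeartbeats 1000000
set_option backward.isDefEq.respectTransparency false

noncomputable section

namespace Groth.Agent.MumVan22

open AlgEquiv22

noncomputable local instance instLawMVAV (Y : Scheme.{u}) : PicGrp.Law Y := M2.law Y

variable {k : Type u} [Field k] {A : Over (Spec (CommRingCat.of k))} [IsProper A.hom]

/-- The pullback along a projection is relatively ample. -/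
theorem isAmple_restrict_snd {L : A.left.Modules} (hL : CohB1.IsAmple L) {U : A.left.Opens} (hU : IsAffineOpen U) :
    CohB1.IsAmple ((Scheme.Modules.pullback ((snd A A).left ⁻¹ᵁ U).ι).obj
      ((Scheme.Modules.pullback (fst A A).left).obj L)) := by
  haveI : IsAffine (U : Scheme.{u}) := hU
  haveI : IsAffineHom (U.ι ≫ A.hom) := isAffineHom_of_isAffine _
  have h : IsPullback (((snd A A).left ⁻¹ᵁ U).ι ≫ (fst A A).left) ((snd A A).left ∣_ U) A.hom (U.ι ≫ A.hom) :=
    (isPullback_morphismRestrict (snd A A).left U).flip.paste_horiz (IsPullback.of_hasPullback A.hom A.hom)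
  haveI : IsAffineHom (((snd A A).left ⁻¹ᵁ U).ι ≫ (fst A A).left) :=
    MorphismProperty.of_isPullback h.flip ‹IsAffineHom (U.ι ≫ A.hom)›
  exact Amp.isAmple_of_iso ((Scheme.Modules.pullbackComp _ _).app L).symm
    (Amp.isAmple_pullback_of_isAffineHom (((snd A A).left ⁻¹ᵁ U).ι ≫ (fst A A).left) hL)

variable [IsAlgClosed k] [GrpObj A] [GeometricallyIntegral A.hom]

/-- Slices of the family of twists. -/
theorem cls_slice (c ℓ : PicLoc.PicSet A.left) {N : (A ⊗ A).left.Modules} (hN : PicF.IsInvertible N)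
    (h : pb (fst A A) c * (pb (fst A A * snd A A) ℓ * (pb (fst A A) ℓ)⁻¹) = PicGrp.cls N hN)
    (t : 𝟙_ (Over (Spec (CommRingCat.of k))) ⟶ A) :
    PicGrp.cls ((Scheme.Modules.pullback (sl A t).left).obj N) (PicLoc.isInvertible_pullback _ hN) =
      c * (pb (𝟙 A * (toUnit A ≫ t)) ℓ * ℓ⁻¹) := by
  have h1 : PicGrp.cls ((Scheme.Modules.pullback (sl A t).left).obj N) (PicLoc.isInvertible_pullback _ hN) =
      pb (sl A t) (PicGrp.cls N hN) := (PicGrp.pullHom_cls _ _ _ _).symm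
  rw [h1, ← h]
  simp only [map_mul, map_inv, pb_pb, MonObj.comp_mul, lift_fst, lift_snd, pb_id]

/-- Uniform vanishing for large powers and translation invariant twists. -/
theorem exists_uniform_van {L : A.left.Modules} (hL : CohB1.IsAmple L) :
    ∃ N₀ : ℕ, ∀ n, N₀ ≤ n → ∀ (M : A.left.Modules) (hM : PicF.IsInvertible M),
      Inv (PicGrp.cls M hM * (PicGrp.cls L hL.1 ^ n)⁻¹) → ∀ p : ℕ, 0 < p → Subsingleton (Coh.HH A.left M p) := by
  haveI : IsLocallyNoetherian A.left := LocallyOfFiniteType.isLocallyNoetherian A.hom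
  haveI : CompactSpace A.left := QuasiCompact.compactSpace_of_compactSpace A.hom
  haveI : IsProper (snd A A).left := inferInstanceAs (IsProper (pullback.snd A.hom A.hom))
  haveI : Flat (snd A A).left := AbRigid.flat_snd_left A A
  set ℓ := PicGrp.cls L hL.1 with hℓ
  obtain ⟨Tw, hTw, hTweq⟩ := PicGrp.exists_eq_cls (pb (fst A A * snd A A) ℓ * (pb (fst A A) ℓ)⁻¹)
  have hP : PicF.IsInvertible ((Scheme.Modules.pullback (fst A A).left).obj L) := PicLoc.isInvertible_pullback _ hL.1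
  obtain ⟨N₀, hN₀⟩ := exists_fibres_vanish (snd A A).left hP (fun U hU => isAmple_restrict_snd hL hU) hTw
  refine ⟨N₀, fun n hn M hM hinv p hp => ?_⟩
  obtain ⟨d, hd, hdeq⟩ := PicGrp.exists_eq_cls (PicGrp.cls M hM * (ℓ ^ n)⁻¹)
  obtain ⟨a, ha⟩ := exists_translate hL.1 hd (hdeq ▸ hinv) (finite_fixing hL)
  rw [← hdeq, ← hℓ] at ha
  have hN := M2.isInvertible_tensor hTw (M2.isInvertible_tensorPow hP n)
  have hfam : pb (fst A A) (ℓ ^ n) * (pb (fst A A * snd A A) ℓ * (pb (fst A A) ℓ)⁻¹) = PicGrp.cls _ hN := by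
    rw [← cls_tensor hTw (M2.isInvertible_tensorPow hP n), hTweq, map_pow, mul_comm]
    congr 1
    apply Subtype.ext
    rw [PicGrp.cls_val, hℓ, pb, PicGrp.pullHom_cls, PicGrp.cls_pow_val]
  have h := cls_slice (ℓ ^ n) ℓ hN hfam a
  rw [ha, mul_comm (PicGrp.cls M hM), ← mul_assoc, mul_inv_cancel, _root_.one_mul] at h
  obtain ⟨i⟩ := (PicGrp.cls_eq_cls_iff _ _).1 h
  haveI := (subsingleton_fiber_iff (snd A A) (sl A a) a (isPullback_slice_snd a) hN p).1 (hN₀ n hn _ p hp)
  exact (CBC10.hmapEquiv i p).toEquiv.symm.subsingleton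

/-- The inverse moves a class by a translation invariant one. -/
theorem inv_symm_div (c : PicLoc.PicSet A.left) : Inv (pb (𝟙 A)⁻¹ c * c⁻¹) := by
  haveI := isCommMonObj_of_isProper_of_geometricallyIntegral A
  intro a
  let φ : (𝟙_ (Over (Spec (CommRingCat.of k))) ⟶ A) → PicLoc.PicSet A.left :=
    fun b => pb (𝟙 A * (toUnit A ≫ b)) c * c⁻¹
  have hcomp : (𝟙 A * (toUnit A ≫ a)) ≫ (𝟙 A)⁻¹ = (𝟙 A)⁻¹ ≫ (𝟙 A * (toUnit A ≫ a⁻¹)) := by
    rw [GrpObj.comp_inv, Category.comp_id, MonObj.comp_mul, Category.comp_id, comp_toUnit_assoc, GrpObj.comp_inv,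
      mul_inv]
  have hinv : φ a⁻¹ = (φ a)⁻¹ := by
    have h1 := inv_translate_div c a a⁻¹
    rw [map_mul, map_inv, pb_pb,
      show (𝟙 A * (toUnit A ≫ a⁻¹)) ≫ (𝟙 A * (toUnit A ≫ a)) = 𝟙 A by
        rw [MonObj.comp_mul, Category.comp_id, comp_toUnit_assoc, _root_.mul_assoc, ← MonObj.comp_mul, inv_mul_cancel,
          MonObj.comp_one, _root_.mul_one], pb_id] at h1
    simp only [φ]
    rw [← h1]
    group
  have hadd : Add (φ a) := (inv_translate_div c a).add
  have key : pb (𝟙 A * (toUnit A ≫ a)) (pb (𝟙 A)⁻¹ c) = pb (𝟙 A)⁻¹ c * φ a := by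
    rw [pb_pb, hcomp, ← pb_pb, show pb (𝟙 A * (toUnit A ≫ a⁻¹)) c = φ a⁻¹ * c from (inv_mul_cancel_right _ _).symm,
      hinv, map_mul, map_inv, hadd.inv', pb_id, inv_inv, mul_comm]
  rw [map_mul, map_inv, key, show pb (𝟙 A * (toUnit A ≫ a)) c = φ a * c from (inv_mul_cancel_right _ _).symm, mul_inv]
  rw [mul_assoc, ← mul_assoc (φ a), mul_inv_cancel, _root_.one_mul]

/-- Multiplication by `n` on classes. -/
theorem pb_pow_class (c : PicLoc.PicSet A.left) (n : ℕ) :
    pb (𝟙 A ^ n) c = c ^ (n * n) * (pb (𝟙 A)⁻¹ c * c⁻¹) ^ (n * (n - 1) / 2) := by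
  obtain ⟨L, hL, rfl⟩ := PicGrp.exists_eq_cls c
  have hb : n * (n + 1) / 2 + n * (n - 1) / 2 = n * n := by
    rcases n with _ | m
    · rfl
    · obtain ⟨x, hx⟩ := Nat.even_mul_succ_self (m + 1)
      obtain ⟨y, hy⟩ := Nat.even_mul_succ_self m
      rw [show (m + 1) * (m + 1 + 1) = 2 * x by omega, show m + 1 - 1 = m from rfl,
        show (m + 1) * m = 2 * y by rw [mul_comm]; omega, Nat.mul_div_cancel_left _ two_pos,
        Nat.mul_div_cancel_left _ two_pos]
      nlinarith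
  rw [show pb (𝟙 A ^ n) (PicGrp.cls L hL) = CubeField.P L hL (𝟙 A ^ n) from PicGrp.pullHom_cls _ _ _ _,
    CubeField.P_pow CubeField.finH1, CubeField.P_id,
    show CubeField.P L hL (𝟙 A)⁻¹ = pb (𝟙 A)⁻¹ (PicGrp.cls L hL) from (PicGrp.pullHom_cls _ _ _ _).symm, ← hb,
    _root_.mul_pow, inv_pow, pow_add, mul_comm (pb (𝟙 A)⁻¹ (PicGrp.cls L hL) ^ _) (_ ^ _)⁻¹, _root_.mul_assoc,
    mul_inv_cancel_left]

theorem Inv.pow' {c : PicLoc.PicSet A.left} (hc : Inv c) (n : ℕ) : Inv (c ^ n) := fun a => by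
  rw [map_pow, hc a]

/-- An ample module has no higher cohomology. -/
theorem subsingleton_of_isAmple {L : A.left.Modules} (hL : CohB1.IsAmple L) {p : ℕ} (hp : 0 < p) :
    Subsingleton (Coh.HH A.left L p) := by
  letI : A.left.Over (Spec (CommRingCat.of k)) := ⟨A.hom⟩
  obtain ⟨N₀, hN₀⟩ := exists_uniform_van hL
  obtain ⟨n, hn, hn0, hnk⟩ : ∃ n : ℕ, N₀ ≤ n ∧ 0 < n ∧ (n : k) ≠ 0 := by
    by_cases h : ((N₀ + 1 : ℕ) : k) = 0
    · refine ⟨N₀ + 2, by omega, by omega, ?_⟩
      rw [show N₀ + 2 = N₀ + 1 + 1 from rfl, Nat.cast_add, h, zero_add, Nat.cast_one]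
      exact one_ne_zero
    · exact ⟨N₀ + 1, by omega, by omega, h⟩
  obtain ⟨hf, hfl, -⟩ := AVDegree22.isFinite_flat_surjective_pow A hn0
  haveI := hf
  haveI := hfl
  obtain ⟨m, hm, hE, -⟩ := IsogEuler22.exists_free (𝟙 A ^ n)
  haveI : IsIntegral A.left := GeometricallyIntegral.isIntegral_of_subsingleton A.hom
  obtain ⟨g, hg⟩ : ∃ g : ℕ, topologicalKrullDim A.left = g := ⟨_, VarDim.dim_eq_sdim_genericPoint A.hom⟩
  have hmk : (m : k) ≠ 0 := by
    rw [← hm (genericPoint A.left), AVDegree22.finrank_pow A hg hn0, Nat.cast_pow]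
    exact pow_ne_zero _ hnk
  refine subsingleton_of_pullback (k := k) (𝟙 A ^ n).left (Over.w (𝟙 A ^ n)) hE hmk (CubeField.isCoh_of_isInvertible hL.1).1 p ?_
  refine hN₀ (n * n) (hn.trans (Nat.le_mul_self n)) _ (PicLoc.isInvertible_pullback _ hL.1) ?_ p hp
  rw [← PicGrp.pullHom_cls _ (M2.pullMul _) _ hL.1]
  show Inv (pb (𝟙 A ^ n) _ * _)
  rw [pb_pow_class, mul_inv_cancel_comm]
  exact Inv.pow' (inv_symm_div _) _

/-- An ample module has sections. -/
theorem nontrivial_of_isAmple {L : A.left.Modules} (hL : CohB1.IsAmple L) : Nontrivial (Coh.HH A.left L 0) := by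
  classical
  letI : A.left.Over (Spec (CommRingCat.of k)) := ⟨A.hom⟩
  haveI : IsProper (A.left ↘ Spec (CommRingCat.of k)) := inferInstanceAs (IsProper A.hom)
  haveI : IsLocallyNoetherian A.left := LocallyOfFiniteType.isLocallyNoetherian A.hom
  haveI : IsIntegral A.left := GeometricallyIntegral.isIntegral_of_subsingleton A.hom
  by_contra hcon
  rw [not_nontrivial_iff_subsingleton] at hcon
  have hzero : Curv2.euler k A.left L = 0 := finsum_eq_zero_of_forall_eq_zero fun p => by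
    haveI : Subsingleton (Coh.HH A.left L p) := by
      rcases Nat.eq_zero_or_pos p with rfl | hp
      · exact hcon
      · exact subsingleton_of_isAmple hL hp
    rw [Module.finrank_zero_of_subsingleton, Nat.cast_zero, mul_zero]
  obtain ⟨N₀, hN₀⟩ := exists_uniform_van hL
  obtain ⟨d, s, hs, -⟩ := hL.2.2 (genericPoint A.left)
  let n := (d + 1) * (N₀ + 1)
  have hn0 : 0 < n := Nat.mul_pos d.succ_pos N₀.succ_pos
  obtain ⟨hf, hfl, -⟩ := AVDegree22.isFinite_flat_surjective_pow A hn0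
  haveI := hf
  haveI := hfl
  obtain ⟨m, hm, -, -⟩ := IsogEuler22.exists_free (𝟙 A ^ n)
  have h1 := IsogEuler22.euler_pullback (𝟙 A ^ n) m hm (CubeField.isCoh_of_isInvertible hL.1)
  rw [hzero, mul_zero] at h1
  set c := PicGrp.cls L hL.1 with hc
  set e := (pb (𝟙 A)⁻¹ c * c⁻¹) ^ (n * (n - 1) / 2)
  obtain ⟨E, hE, hEeq⟩ := PicGrp.exists_eq_cls e
  obtain ⟨a, ha⟩ := exists_translate hL.1 hE (hEeq ▸ Inv.pow' (inv_symm_div c) _) (finite_fixing hL)
  rw [← hEeq, ← hc] at ha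
  obtain ⟨N, hN, hNeq⟩ := PicGrp.exists_eq_cls
    (pb (fst A A) (c ^ (n * n)) * (pb (fst A A * snd A A) c * (pb (fst A A) c)⁻¹))
  haveI : IsProper (snd A A).left := inferInstanceAs (IsProper (pullback.snd A.hom A.hom))
  haveI : Flat (snd A A).left := AbRigid.flat_snd_left A A
  let e0 : 𝟙_ (Over (Spec (CommRingCat.of k))) ⟶ A := 1
  have heu := euler_slice_eq (snd A A) (CubeField.isCoh_of_isInvertible hN) (isFlatOver_proj (snd A A) hN)
    (sl A a) (sl A e0) a e0 (isPullback_slice_snd a) (isPullback_slice_snd e0)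
  obtain ⟨ia⟩ : Nonempty ((Scheme.Modules.pullback (sl A a).left).obj N ≅
      (Scheme.Modules.pullback (𝟙 A ^ n).left).obj L) := by
    refine (PicGrp.cls_eq_cls_iff (PicLoc.isInvertible_pullback _ hN) (PicLoc.isInvertible_pullback _ hL.1)).1 ?_
    rw [cls_slice _ _ hN hNeq, ha, ← PicGrp.pullHom_cls _ (M2.pullMul _) _ hL.1]
    exact (pb_pow_class c n).symm
  have hP := M2.isInvertible_tensorPow hL.1 (n * n)
  obtain ⟨i0⟩ : Nonempty ((Scheme.Modules.pullback (sl A e0).left).obj N ≅ CohB1.tensorPow L (n * n)) := by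
    refine (PicGrp.cls_eq_cls_iff (PicLoc.isInvertible_pullback _ hN) hP).1 ?_
    rw [cls_slice _ _ hN hNeq, MonObj.comp_one, _root_.mul_one, pb_id, mul_inv_cancel, _root_.mul_one]
    exact Subtype.ext (by rw [PicGrp.cls_pow_val, PicGrp.cls_val])
  rw [CurveCoh17.euler_iso ia, CurveCoh17.euler_iso i0, h1] at heu
  haveI := CohFound.finite_HH_of_isProper (A := k) _ (CubeField.isCoh_of_isInvertible hP) 0
  have hvan : ∀ p : ℕ, 0 < p → Subsingleton (Coh.HH A.left (CohB1.tensorPow L (n * n)) p) := fun p hp =>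
    hN₀ (n * n) ((Nat.le_succ N₀).trans ((Nat.le_mul_of_pos_left _ d.succ_pos).trans (Nat.le_mul_self n))) _ hP (by
      rw [show PicGrp.cls _ hP = c ^ (n * n) from Subtype.ext (by rw [PicGrp.cls_pow_val, PicGrp.cls_val]),
        mul_inv_cancel]
      exact inv_unit) p hp
  rw [Curv2.euler, finsum_eq_single _ 0 (fun p hp => by
    haveI := hvan p (Nat.pos_of_ne_zero hp)
    rw [Module.finrank_zero_of_subsingleton, Nat.cast_zero, mul_zero])] at heu
  have h0 : Module.finrank k (Coh.HH A.left (CohB1.tensorPow L (n * n)) 0) = 0 := by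
    rw [pow_zero, _root_.one_mul] at heu
    exact_mod_cast heu.symm
  haveI := Module.finrank_zero_iff.1 h0
  obtain ⟨q, hq⟩ : ∃ q, n * n = (d + 1) * (q + 1) :=
    ⟨(N₀ + 1) * n - 1, by
      rw [Nat.sub_add_cancel (show 1 ≤ (N₀ + 1) * n from Nat.mul_pos N₀.succ_pos hn0), show (d + 1) * ((N₀ + 1) * n) = n * n from
        (mul_assoc _ _ _).symm]⟩
  have hnt : Nontrivial (Coh.HH A.left (CohB1.tensorPow L ((d + 1) * (q + 1))) 0) := by
    let σ := SecTwist.powHom s (q + 1) ≫ (M2.tensorPowPow L (d + 1) (q + 1)).hom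
    refine (exists_hom_ne_zero_iff (M2.isInvertible_tensorPow hL.1 _)).2 ⟨σ, genericPoint A.left, ?_⟩
    rw [Amp.genLocus_comp_iso, Amp.genLocus_powHom (M2.isInvertible_tensorPow hL.1 _)]
    exact hs
  rw [← hq] at hnt
  exact not_subsingleton (Coh.HH A.left (CohB1.tensorPow L (n * n)) 0) inferInstance

end Groth.Agent.MumVan22
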