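import Groth.Agent.Lib.CBC10.Near
import Groth.Agent.Lib.CohFound.Qcqs
import Groth.Agent.Lib.CohFound.HHBridge
import Groth.Agent.Lib.FlatCx.Bounded
import Groth.Agent.Lib.CohBC18.Family
import Mathlib.RingTheory.LocalRing.Module

/-!
# Acyclic fibres and acyclic preimages
-/

set_option autoImplicit false
set_option linter.style.haveILetI false
set_option linter.unusedSectionVars false
set_option maxHeartbeats 1000000

universe u

open CategoryTheory CategoryTheory.Limits AlgebraicGeometry TopologicalSpace Opposite TensorProduct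

noncomputable section

namespace Groth.Agent.MumVan22

open Groth.Agent.CohFound Groth.Agent.CBC10

variable {A : Type u} [CommRing A] (P : ChainComplex (ModuleCat.{u} A) ℤ)
  [∀ i, Module.Finite A (P.X i)] [∀ i, Module.Flat A (P.X i)]

/-- A complex with vanishing fibres in a degree has vanishing homology in that degree. -/
theorem subsingleton_T_of_dRank [IsNoetherianRing A] (p : ℤ) (h : ∀ x : PrimeSpectrum A, CohIII.dRank P p x = 0)
    (M : ModuleCat.{u} A) : Subsingleton (CohIII.T P p M) := by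
  have hflat : ∀ q, (∀ x : PrimeSpectrum A, x ∈ Module.freeLocus A (FlatCxLib.Cok P q)) →
      Module.Flat A (FlatCxLib.Cok P q) := fun q hq => by
    haveI := Module.finitePresentation_of_finite A (FlatCxLib.Cok P q)
    haveI : Module.Projective A (FlatCxLib.Cok P q) := Module.freeLocus_eq_univ_iff.1 (Set.eq_univ_of_forall hq)
    infer_instance
  haveI := hflat (p - 1) fun x => (mem_freeLocus_of_dRank_zero P x (sub_add_cancel p 1) (h x)).2
  have he : (CohIII.TFun P p).PreservesEpimorphisms :=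
    (FlatCxLib.preservesEpi_iff P (sub_add_cancel p 1)).2 inferInstance
  haveI := FlatCxLib.finite_H P p
  have hs : ∀ x : PrimeSpectrum A, Subsingleton (x.asIdeal.ResidueField ⊗[A] FlatCxLib.H P p) := fun x => by
    haveI : Subsingleton (CohIII.T P p (ModuleCat.of A x.asIdeal.ResidueField)) := by
      refine (subsingleton_T_field_iff P x.asIdeal.ResidueField p).2 ?_
      rw [show PrimeSpectrum.comap (algebraMap A x.asIdeal.ResidueField) ⟨⊥, Ideal.isPrime_bot⟩ = x from
        PrimeSpectrum.ext (by ext a; simp)]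
      exact h x
    exact ((TensorProduct.comm A _ _).toEquiv.trans (LinearEquiv.ofBijective _
      (FlatCxLib.theta_bijective P p he x.asIdeal.ResidueField)).toEquiv).subsingleton
  have : Subsingleton (FlatCxLib.H P p) := by
    rw [← Module.support_eq_empty_iff (R := A), Set.eq_empty_iff_forall_notMem]
    intro x hx
    exact not_nontrivial_iff_subsingleton.2 (hs x) ((Module.mem_support_iff_nontrivial_residueField_tensorProduct x).1 hx)
  haveI := this
  exact ((FlatCxLib.theta_bijective P p he M).2).subsingleton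

/-- A bounded complex of flat modules with vanishing homology stays acyclic after tensoring. -/
theorem subsingleton_T_of_H {i₀ : ℤ} (hb : ∀ i < i₀, IsZero (P.X i)) (h : ∀ q, Subsingleton (FlatCxLib.H P q))
    (p : ℤ) (M : ModuleCat.{u} A) : Subsingleton (CohIII.T P p M) := by
  haveI := h p
  have he := (FlatCxLib.exact_of_flat_H P hb p (fun q _ => haveI := h q; inferInstance) le_rfl).2
  exact ((FlatCxLib.theta_bijective P p he M).2).subsingleton

/-- Mayer–Vietoris for vanishing. -/
theorem subsingleton_hc_sup {T : TopCat.{u}} {G : CohTop.Ab T} {U V : Opens T}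
    (hU : ∀ n, Subsingleton (Hc G n U)) (hV : ∀ n, Subsingleton (Hc G n V))
    (hI : ∀ n, Subsingleton (Hc G n (U ⊓ V))) (n : ℕ) : Subsingleton (Hc G n (U ⊔ V)) := by
  suffices h : ∀ x : Hc G n (U ⊔ V), x = 0 from ⟨fun a b => (h a).trans (h b).symm⟩
  intro x
  have e1 : rs G n (le_sup_left : U ≤ U ⊔ V) x = 0 := (hU n).elim _ _
  have e2 : rs G n (le_sup_right : V ≤ U ⊔ V) x = 0 := (hV n).elim _ _
  cases n with
  | zero =>
    refine (hc0 G _).injective ?_
    rw [map_zero]
    exact TopCat.Sheaf.eq_of_locally_eq₂ G (homOfLE le_sup_left) (homOfLE le_sup_right) le_rfl _ _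
      (((hc0_rs _ _ x).symm.trans (by rw [e1, map_zero])).trans (map_zero _).symm)
      (((hc0_rs _ _ x).symm.trans (by rw [e2, map_zero])).trans (map_zero _).symm)
  | succ m =>
    obtain ⟨v, hv⟩ := mv_exact x e1 e2
    rw [← hv, (hI m).elim v 0, map_zero]

/-- The cut-out step. -/
theorem subsingleton_hc_left {T : TopCat.{u}} {G : CohTop.Ab T} {U V : Opens T}
    (hS : ∀ n, Subsingleton (Hc G n (U ⊔ V))) (hI : ∀ n, Subsingleton (Hc G n (U ⊓ V))) (n : ℕ) :
    Subsingleton (Hc G n U) := by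
  refine ⟨fun a b => ?_⟩
  obtain ⟨x, hx, -⟩ := mv_glue a (0 : Hc G n V) ((hI n).elim _ _)
  obtain ⟨x', hx', -⟩ := mv_glue b (0 : Hc G n V) ((hI n).elim _ _)
  rw [← hx, ← hx', (hS n).elim x x']

section Scheme

variable {X Y : Scheme.{u}} (f : X ⟶ Y) [IsProper f] [IsLocallyNoetherian Y] {F : X.Modules}

/-- The cohomology of `F` over the preimage of an open vanishes. -/
def Van (F : X.Modules) (U : Y.Opens) : Prop := ∀ n, Subsingleton (Hc ((abF X).obj F) n (f ⁻¹ᵁ U))

/-- Over an affine open with acyclic fibres the cohomology vanishes. -/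
theorem van_of_fibres (hF : Coh.IsCoh F) (hfl : FlatMod.IsFlatOver f F) {U : Y.Opens} (hU : IsAffineOpen U)
    (h : ∀ y ∈ U, ∀ p, Subsingleton (CohIII.fiberH f F y p)) : Van f F U := by
  intro n
  obtain ⟨P, hfin, hflat, -, -, hP⟩ := exists_complexOn hF hfl hU
  haveI := hfin
  haveI := hflat
  haveI : IsNoetherianRing Γ(Y, U) := IsLocallyNoetherian.component_noetherian ⟨U, hU⟩
  letI := overU f hU
  haveI := isProper_overU f hU
  haveI : CompactSpace ((f ⁻¹ᵁ U : X.Opens) : Scheme.{u}) :=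
    QuasiCompact.compactSpace_of_compactSpace ((f ⁻¹ᵁ U : X.Opens).toScheme ↘ Spec (CommRingCat.of Γ(Y, U)))
  haveI : ((f ⁻¹ᵁ U : X.Opens) : Scheme.{u}).IsSeparated := ⟨by
    rw [← terminal.comp_from ((f ⁻¹ᵁ U : X.Opens).toScheme ↘ Spec (CommRingCat.of Γ(Y, U)))]; infer_instance⟩
  obtain ⟨e⟩ := Computes.exists_unit hP (isCoh_resU (f := f) (U := U) hF).1 n
  haveI : Subsingleton (CohIII.T P (-(n : ℤ)) (ModuleCat.of Γ(Y, U) Γ(Y, U))) := by
    refine subsingleton_T_of_dRank P _ (fun x => ?_) _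
    obtain ⟨y, hy⟩ : ∃ y : ↥U, hU.primeIdealOf y = x := by
      refine ⟨⟨hU.fromSpec x, hU.range_fromSpec.le ⟨x, rfl⟩⟩, hU.fromSpec.isOpenEmbedding.injective ?_⟩
      exact hU.fromSpec_primeIdealOf _
    rw [← hy, ← hP.fiberRank_eq y.2 hF.1 n]
    exact fiberRank_eq_zero_of_subsingleton (h y y.2 n)
  haveI := e.symm.toEquiv.subsingleton
  obtain ⟨e'⟩ := nonempty_HHon_addEquiv F (f ⁻¹ᵁ U) n
  exact e'.symm.toEquiv.subsingleton

/-- Mayer–Vietoris. -/
theorem van_sup {U V : Y.Opens} (hU : Van f F U) (hV : Van f F V) (hI : Van f F (U ⊓ V)) : Van f F (U ⊔ V) := by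
  intro n
  rw [Scheme.Hom.preimage_sup]
  exact subsingleton_hc_sup hU hV (fun m => by have := hI m; rwa [Scheme.Hom.preimage_inf] at this) n

/-- Vanishing over every quasi-compact open inside an open with acyclic fibres. -/
theorem van_of_fibres_qc [QuasiSeparatedSpace Y] (hF : Coh.IsCoh F) (hfl : FlatMod.IsFlatOver f F) {O : Y.Opens}
    (h : ∀ y ∈ O, ∀ p, Subsingleton (CohIII.fiberH f F y p)) {U : Y.Opens} (hU : IsCompact (U : Set Y))
    (hle : U ≤ O) : Van f F U :=
  qcqs_induction (P := fun U => U ≤ O → Van f F U)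
    (fun V hV hVO => van_of_fibres f hF hfl hV fun y hy => h y (hVO hy))
    (fun A B _ _ hA hB hI hle => van_sup f (hA (le_sup_left.trans hle)) (hB (le_sup_right.trans hle))
      (hI (inf_le_left.trans (le_sup_left.trans hle)))) hU hle

/-- The cut-out step. -/
theorem van_left {U V : Y.Opens} (hS : Van f F (U ⊔ V)) (hI : Van f F (U ⊓ V)) : Van f F U :=
  subsingleton_hc_left (V := f ⁻¹ᵁ V) (fun n => by have := hS n; rwa [Scheme.Hom.preimage_sup] at this)
    (fun n => by have := hI n; rwa [Scheme.Hom.preimage_inf] at this)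

/-- Vanishing over an affine open makes the fibres acyclic. -/
theorem fibres_of_van (hF : Coh.IsCoh F) (hfl : FlatMod.IsFlatOver f F) {U : Y.Opens} (hU : IsAffineOpen U)
    (h : Van f F U) {y : Y} (hy : y ∈ U) (p : ℕ) : Subsingleton (CohIII.fiberH f F y p) := by
  obtain ⟨P, hfin, hflat, ⟨i₀, hb⟩, hpos, hP⟩ := exists_complexOn hF hfl hU
  haveI := hfin
  haveI := hflat
  letI := overU f hU
  haveI := isProper_overU f hU
  haveI : CompactSpace ((f ⁻¹ᵁ U : X.Opens) : Scheme.{u}) :=
    QuasiCompact.compactSpace_of_compactSpace ((f ⁻¹ᵁ U : X.Opens).toScheme ↘ Spec (CommRingCat.of Γ(Y, U)))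
  haveI : ((f ⁻¹ᵁ U : X.Opens) : Scheme.{u}).IsSeparated := ⟨by
    rw [← terminal.comp_from ((f ⁻¹ᵁ U : X.Opens).toScheme ↘ Spec (CommRingCat.of Γ(Y, U)))]; infer_instance⟩
  have hH : ∀ q, Subsingleton (FlatCxLib.H P q) := fun q => by
    rcases lt_or_ge 0 q with hq | hq
    · exact hpos q hq _
    · obtain ⟨n, rfl⟩ : ∃ n : ℕ, q = -(n : ℤ) := ⟨(-q).toNat, by omega⟩
      obtain ⟨e⟩ := Computes.exists_unit hP (isCoh_resU (f := f) (U := U) hF).1 n
      obtain ⟨e'⟩ := nonempty_HHon_addEquiv F (f ⁻¹ᵁ U) n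
      haveI := h n
      haveI : Subsingleton (Coh.HHon X F (f ⁻¹ᵁ U) n) := e'.toEquiv.subsingleton
      exact e.toEquiv.subsingleton
  refine (hP.subsingleton_fiberH_iff hy hF.1 p).2 ?_
  exact subsingleton_T_of_H P hb hH _ _

end Scheme

end Groth.Agent.MumVan22
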