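import Groth.Agent.Lib.MumVan22.Vanish
import Groth.Agent.Lib.MumVan22.Acyclic
import Groth.Agent.Lib.PushUnit3.Basic

/-!
# Fibres over rational points, in all degrees
-/

universe u

open CategoryTheory Limits MonoidalCategory CartesianMonoidalCategory AlgebraicGeometry TopologicalSpace Opposite
open scoped MonObj GrpObj

set_option linter.style.haveILetI false
set_option linter.unusedSectionVars false
set_option maxHeartbeats 1000000
set_option backward.isDefEq.respectTransparency false

noncomputable section

namespace Groth.Agent.MumVan22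

open Groth.Agent.CBC10

open CohFound in
attribute [-instance] abelianAb hasExtAb isGrothendieckAbelianAb enoughInjectivesAb

/-- Cohomology is unchanged by an isomorphism of schemes. -/
theorem subsingleton_HH_iso_iff {X Y : Scheme.{u}} (f : X ⟶ Y) [IsIso f] {L : Y.Modules} (hL : PicF.IsInvertible L)
    (p : ℕ) : Subsingleton (Coh.HH X ((Scheme.Modules.pullback f).obj L) p) ↔ Subsingleton (Coh.HH Y L p) := by
  have hf : ∀ U : Y.Opens, Function.Bijective (f.app U) := fun U =>
    (ConcreteCategory.isIso_iff_bijective (f.app U)).1 inferInstance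
  let a := (Scheme.Modules.pullbackPushforwardAdjunction f).unit.app L
  haveI : IsIso a := PushUnit3.isIso_unit f hf (M2.isFinLocFree_of_isInvertible hL)
  have hN : Coh.IsQCoh ((Scheme.Modules.pullback f).obj L) :=
    M1.isQCoh_pullback f (M2.isQCoh_of_isFinLocFree (M2.isFinLocFree_of_isInvertible hL))
  have hinj := pullF_injective f hN a p
  haveI : IsIso (abMap f a) := Functor.map_isIso _ _
  have hsurj : Function.Surjective (pullF f.base (abMap f a) p) := by
    intro y
    obtain ⟨x, hx⟩ := (bijective_edgeF_affine f hN p).2 y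
    refine ⟨Sheaf.H.map (inv (abMap f a)) p x, ?_⟩
    rw [pullF_eq_edgeF, ← Sheaf.H.map_comp_apply, IsIso.inv_hom_id, Sheaf.H.map_id_apply]
    exact hx
  exact (Equiv.ofBijective _ ⟨hinj, hsurj⟩).subsingleton_congr.symm

variable {k : Type u} [Field k] [IsAlgClosed k] {A T P : Over (Spec (CommRingCat.of k))}
  [LocallyOfFiniteType T.hom]

/-- The fibre over a rational point is the slice. -/
theorem subsingleton_fiber_iff (f : P ⟶ T) (s : A ⟶ P) (t : 𝟙_ (Over (Spec (CommRingCat.of k))) ⟶ T)
    (hpb : IsPullback s.left A.hom f.left t.left) {L : P.left.Modules} (hL : PicF.IsInvertible L) (p : ℕ) :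
    Subsingleton (CohIII.fiberH f.left L (CubeField.rpt t) p) ↔
      Subsingleton (Coh.HH A.left ((Scheme.Modules.pullback s.left).obj L) p) := by
  let g : Spec (CommRingCat.of k) ⟶ T.left := t.left
  have hg : g ≫ T.hom = 𝟙 _ := Over.w t
  have hxc : IsClosed ({CubeField.rpt t} : Set T.left) := by
    haveI : LocallyOfFiniteType (g ≫ T.hom) := by rw [hg]; infer_instance
    haveI : LocallyOfFiniteType g := locallyOfFiniteType_of_comp g T.hom
    haveI : JacobsonSpace T.left := LocallyOfFiniteType.jacobsonSpace T.hom
    exact g.closePoints_subset_preimage_closedPoints (isClosed_discrete (α := Spec (CommRingCat.of k)) _)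
  let x := CubeField.rpt t
  let r := residueFieldIsoBase T.hom x hxc
  have hgr : g = Spec.map r.hom ≫ T.left.fromSpecResidueField x := by
    refine ext_of_apply_closedPoint_eq T.hom hg ?_ ?_
    · rw [Category.assoc, ← SpecMap_residueFieldIsoBase_inv T.hom x hxc, ← Spec.map_comp, Iso.inv_hom_id, Spec.map_id]
    · rw [Scheme.Hom.comp_apply, Scheme.fromSpecResidueField_apply]
      rfl
  haveI : IsIso (Spec.map r.hom) := inferInstance
  have hpb' : IsPullback s.left (A.hom ≫ Spec.map r.hom) f.left (T.left.fromSpecResidueField x) := by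
    refine IsPullback.of_iso hpb (Iso.refl _) (Iso.refl _) (asIso (Spec.map r.hom)) (Iso.refl _) ?_ ?_ ?_ ?_
    · simp
    · simp
    · simp
    · simpa using hgr
  let φ : A.left ≅ f.left.fiber x := hpb'.isoIsPullback _ _ (IsPullback.of_hasPullback _ _)
  have hφ : φ.hom ≫ f.left.fiberι x = s.left := IsPullback.isoIsPullback_hom_fst _ _ _ _
  have hFinv : PicF.IsInvertible (CohIII.fiberMod f.left L x) := PicLoc.isInvertible_pullback _ hL
  show Subsingleton (Coh.HH _ (CohIII.fiberMod f.left L x) p) ↔ _
  rw [← subsingleton_HH_iso_iff φ.hom hFinv p]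
  let i := (Scheme.Modules.pullbackComp φ.hom (f.left.fiberι x)).app L ≪≫ (Scheme.Modules.pullbackCongr hφ).app L
  exact (CBC10.hmapEquiv i p).toEquiv.subsingleton_congr

end Groth.Agent.MumVan22
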