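import Groth.Agent.Lib.CBC10.BcModel
import Groth.Agent.Lib.CBC10.CompMod
import Groth.Agent.Lib.TensorMod.PullStalk

/-!
# Pullbacks of classes: slices, scalars, identity
-/

set_option autoImplicit false
set_option linter.style.haveILetI false
set_option maxHeartbeats 1000000
set_option backward.isDefEq.respectTransparency false

universe u

open CategoryTheory CategoryTheory.Limits AlgebraicGeometry TopologicalSpace Opposite

noncomputable section

namespace Groth.Agent.MumVan22

open Groth.Agent.CBC10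

open CohFound in
attribute [-instance] abelianAb hasExtAb isGrothendieckAbelianAb enoughInjectivesAb

variable {X Y Z : Scheme.{u}}

/-- Composite of two maps into direct images. -/
def pc {k₂ : Z ⟶ X} {k₁ : X ⟶ Y} {k : Z ⟶ Y} (hk : k₂ ≫ k₁ = k) {M : Y.Modules} {N : X.Modules} {P : Z.Modules}
    (a : M ⟶ (Scheme.Modules.pushforward k₁).obj N) (b : N ⟶ (Scheme.Modules.pushforward k₂).obj P) :
    M ⟶ (Scheme.Modules.pushforward k).obj P :=
  a ≫ (Scheme.Modules.pushforward k₁).map b ≫ (Scheme.Modules.pushforwardComp k₂ k₁).hom.app P ≫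
    (Scheme.Modules.pushforwardCongr hk).hom.app P

theorem pc_app {k₂ : Z ⟶ X} {k₁ : X ⟶ Y} {k : Z ⟶ Y} (hk : k₂ ≫ k₁ = k) {M : Y.Modules} {N : X.Modules}
    {P : Z.Modules} (a : M ⟶ (Scheme.Modules.pushforward k₁).obj N) (b : N ⟶ (Scheme.Modules.pushforward k₂).obj P)
    (W : Y.Opens) (h : k ⁻¹ᵁ W ≤ k₂ ⁻¹ᵁ (k₁ ⁻¹ᵁ W)) (s : Γ(M, W)) :
    (pc hk a b).app W s = M1.mres P h (b.app (k₁ ⁻¹ᵁ W) (a.app W s)) := by
  subst hk
  rfl

/-- Pullbacks of classes along composable maps. -/
theorem pullF_pullF {k₂ : Z ⟶ X} {k₁ : X ⟶ Y} {k : Z ⟶ Y} (hk : k₂ ≫ k₁ = k) {M : Y.Modules} {N : X.Modules}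
    {P : Z.Modules} (a : M ⟶ (Scheme.Modules.pushforward k₁).obj N) (b : N ⟶ (Scheme.Modules.pushforward k₂).obj P)
    (p : ℕ) (x : Coh.HH Y M p) :
    pullF k₂.base (abMap k₂ b) p (pullF k₁.base (abMap k₁ a) p x) = pullF k.base (abMap k (pc hk a b)) p x :=
  pullF_comp_mod k₂ k₁ hk a b _ (fun W V _ h s => pc_app hk a b W h s) p x

/-- Pullback along a map with an affine map and an isomorphism is injective. -/
theorem pullF_injective (h : X ⟶ Y) [IsAffineHom h] {M : Y.Modules} {N : X.Modules} (hN : Coh.IsQCoh N)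
    (a : M ⟶ (Scheme.Modules.pushforward h).obj N) [IsIso a] (p : ℕ) :
    Function.Injective (pullF h.base (abMap h a) p) := by
  intro x y hxy
  rw [pullF_eq_edgeF, pullF_eq_edgeF] at hxy
  have h1 := (bijective_edgeF_affine h hN p).1 hxy
  haveI : IsIso (abMap h a) := Functor.map_isIso _ _
  have h2 := congrArg (Sheaf.H.map (inv (abMap h a)) p) h1
  rwa [← Sheaf.H.map_comp_apply, ← Sheaf.H.map_comp_apply, IsIso.hom_inv_id, Sheaf.H.map_id_apply,
    Sheaf.H.map_id_apply] at h2

lemma abMap_app (h : X ⟶ Y) {M : Y.Modules} {N : X.Modules} (a : M ⟶ (Scheme.Modules.pushforward h).obj N)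
    (W : Y.Opens) (s : Γ(M, W)) : (abMap h a).hom.app (op W) s = a.app W s := rfl

/-- The pullback of classes is semilinear. -/
theorem pullF_smul (h : X ⟶ Y) {M : Y.Modules} {N : X.Modules} (a : M ⟶ (Scheme.Modules.pushforward h).obj N)
    (r : Coh.Γtop Y) (p : ℕ) (x : Coh.HH Y M p) :
    pullF h.base (abMap h a) p (r • x) = (show Coh.Γtop X from h.appTop r) • pullF h.base (abMap h a) p x := by
  refine (pullF_map_left h.base (Coh.smulAb M r) (abMap h a) p x).trans ?_
  refine Eq.trans ?_ (pullF_map_right h.base (abMap h a) (Coh.smulAb N (h.appTop r)) p x).symm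
  refine congrArg (fun t => pullF h.base t p x) ?_
  apply CategoryTheory.Sheaf.hom_ext
  refine NatTrans.ext (funext fun W => AddCommGrpCat.ext fun s => ?_)
  show a.app W.unop (M1.ores (le_top : W.unop ≤ (⊤ : Y.Opens)) r • (show Γ(M, W.unop) from s)) =
    M1.ores (le_top : h ⁻¹ᵁ W.unop ≤ (⊤ : X.Opens)) (h.appTop r) • (show Γ(N, h ⁻¹ᵁ W.unop) from a.app W.unop s)
  rw [Scheme.Modules.Hom.app_smul]
  show h.app W.unop (M1.ores (le_top : W.unop ≤ (⊤ : Y.Opens)) r) • (show Γ(N, h ⁻¹ᵁ W.unop) from a.app W.unop s) = _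
  congr 1
  exact ConcreteCategory.congr_hom (h.naturality (homOfLE (le_top : W.unop ≤ ⊤)).op) r

/-- The pullback of classes is linear in the map of sheaves. -/
theorem pullF_smul_hom (h : X ⟶ Y) {M : Y.Modules} {N : X.Modules} (a b : M ⟶ (Scheme.Modules.pushforward h).obj N)
    (r : Coh.Γtop X) (hb : ∀ (W : Y.Opens) (s : Γ(M, W)), (show Γ(N, h ⁻¹ᵁ W) from b.app W s) =
      M1.ores (le_top : h ⁻¹ᵁ W ≤ (⊤ : X.Opens)) r • (show Γ(N, h ⁻¹ᵁ W) from a.app W s)) (p : ℕ) (x : Coh.HH Y M p) :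
    pullF h.base (abMap h b) p x = r • pullF h.base (abMap h a) p x := by
  refine Eq.trans ?_ (pullF_map_right h.base (abMap h a) (Coh.smulAb N r) p x).symm
  refine congrArg (fun t => pullF h.base t p x) ?_
  apply CategoryTheory.Sheaf.hom_ext
  exact NatTrans.ext (funext fun W => AddCommGrpCat.ext fun s => hb W.unop s)

/-- A section of a projection retracts the inverse image. -/
theorem exists_slice {ι : X ⟶ Z} {π : Z ⟶ X} (hι : ι ≫ π = 𝟙 X) (M : X.Modules) :
    ∃ r : (Scheme.Modules.pullback π).obj M ⟶ (Scheme.Modules.pushforward ι).obj M,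
      ∀ (W : X.Opens) (s : Γ(M, W)) (e : W ≤ ι ⁻¹ᵁ (π ⁻¹ᵁ W)),
        M1.mres M e (r.app (π ⁻¹ᵁ W) (M2.pullSec π M s)) = s := by
  let w : M ⟶ (Scheme.Modules.pushforward π).obj ((Scheme.Modules.pushforward ι).obj M) :=
    (Scheme.Modules.pushforwardId X).inv.app M ≫ (Scheme.Modules.pushforwardCongr hι).inv.app M ≫
      (Scheme.Modules.pushforwardComp ι π).inv.app M
  refine ⟨((Scheme.Modules.pullbackPushforwardAdjunction π).homEquiv _ _).symm w, fun W s e => ?_⟩
  have h1 : (Scheme.Modules.pullbackPushforwardAdjunction π).unit.app M ≫ (Scheme.Modules.pushforward π).map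
      (((Scheme.Modules.pullbackPushforwardAdjunction π).homEquiv _ _).symm w) = w :=
    ((Scheme.Modules.pullbackPushforwardAdjunction π).homEquiv_unit _ _ _).symm.trans (Equiv.apply_symm_apply _ w)
  refine (congrArg (fun φ => M1.mres M e (φ.app W s)) h1).trans ?_
  clear h1
  simp only [w, Scheme.Modules.Hom.comp_app, CategoryTheory.comp_apply]
  show M.presheaf.map _ (M.presheaf.map _ s) = s
  rw [← CategoryTheory.comp_apply, ← M.presheaf.map_comp]
  exact ConcreteCategory.congr_hom (M.presheaf.map_id (op W)) s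

end Groth.Agent.MumVan22
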