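import Groth.Agent.Lib.PullBC11.AffineBC
import Groth.Agent.Lib.CurveCoh17.EtaleEuler
import Groth.Agent.Lib.PushUnit3.Basic
import Groth.Agent.Lib.CubeField.AmpleExists
import Groth.Agent.Lib.RatMapAV.Hom
import Groth.Agent.Lib.AlgSpDecent.FinDeg
import Groth.Agent.Lib.VB17.Proper

/-!
# The direct image along an isogeny becomes free after pullback
-/

universe u

open CategoryTheory Limits MonoidalCategory CartesianMonoidalCategory AlgebraicGeometry TopologicalSpace Opposite
open scoped MonObj GrpObj

set_option linter.style.haveILetI false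
set_option linter.unusedSectionVars false
set_option maxHeartbeats 1000000
set_option backward.isDefEq.respectTransparency false

noncomputable section

namespace Groth.Agent.PushShear22

open Groth.Agent CurveCoh17

/-- The base change of the direct image. -/
theorem nonempty_pull_pushO {X Y T : Scheme.{u}} (f : X ⟶ Y) [IsAffineHom f] (g : T ⟶ Y) :
    Nonempty ((Scheme.Modules.pullback g).obj (pushO f) ≅ pushO (pullback.fst g f)) := by
  have h : IsPullback (pullback.snd g f) (pullback.fst g f) f g := (IsPullback.of_hasPullback g f).flip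
  haveI := PullBC11.isIso_bcMap h (Coh.structureModule X) (M1.isQCoh_structureModule X)
  exact ⟨asIso (((Scheme.Modules.pullbackPushforwardAdjunction g).homEquiv _ _).symm
      (PullBC11.bcMap h (Coh.structureModule X))) ≪≫
    (Scheme.Modules.pushforward (pullback.fst g f)).mapIso (PicLoc.pullbackStructureIso (pullback.snd g f))⟩

/-- An isomorphism over the base gives isomorphic direct images. -/
theorem nonempty_pushO_iso {W W' T : Scheme.{u}} (e : W ⟶ W') [IsIso e] (p : W ⟶ T) (p' : W' ⟶ T) (h : e ≫ p' = p) :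
    Nonempty (pushO p' ≅ pushO p) := by
  have he : ∀ U : W'.Opens, Function.Bijective (e.app U) := fun U =>
    (ConcreteCategory.isIso_iff_bijective (e.app U)).1 inferInstance
  have hO : FlatMod.IsFinLocFree (Coh.structureModule W') :=
    M2.isFinLocFree_of_isInvertible (PicLoc.isInvertible_structureModule W')
  haveI := PushUnit3.isIso_unit e he hO
  let i : Coh.structureModule W' ≅ (Scheme.Modules.pushforward e).obj (Coh.structureModule W) :=
    asIso ((Scheme.Modules.pullbackPushforwardAdjunction e).unit.app (Coh.structureModule W')) ≪≫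
      (Scheme.Modules.pushforward e).mapIso (PicLoc.pullbackStructureIso e)
  exact ⟨(Scheme.Modules.pushforward p').mapIso i ≪≫ (Scheme.Modules.pushforwardComp e p').app _ ≪≫
    (Scheme.Modules.pushforwardCongr h).app _⟩

/-- A locally free module pulled back along a map into a trivialising open is free. -/
theorem nonempty_pull_free {T Y : Scheme.{u}} {E : Y.Modules} {m : ℕ} {V : Y.Opens}
    (eV : E.restrict V.ι ≅ FlatMod.freeMod (V : Scheme.{u}) m) (g : T ⟶ Y) (hg : ∀ t : T, g t ∈ V) :
    Nonempty ((Scheme.Modules.pullback g).obj E ≅ FlatMod.freeMod T m) := by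
  have hr : Set.range g ⊆ Set.range V.ι := by
    rintro _ ⟨t, rfl⟩; rw [Scheme.Opens.range_ι]; exact hg t
  let l := IsOpenImmersion.lift V.ι g hr
  have hl : l ≫ V.ι = g := IsOpenImmersion.lift_fac _ _ _
  exact ⟨((Scheme.Modules.pullbackCongr hl).app E).symm ≪≫ ((Scheme.Modules.pullbackComp l V.ι).app E).symm ≪≫
    (Scheme.Modules.pullback l).mapIso (((Scheme.Modules.restrictFunctorIsoPullback V.ι).app E).symm ≪≫ eV) ≪≫
    M2.freeModPullbackIso l m⟩

variable {k : Type u} [Field k]

/-- Sections of the structure module of an affine scheme over a field. -/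
theorem finrank_H0_structure {Z : Scheme.{u}} (g : Z ⟶ Spec (CommRingCat.of k)) {B : Type u} [CommRing B] [Algebra k B]
    (eB : Z ≅ Spec (CommRingCat.of B)) (heB : eB.hom ≫ Spec.map (CommRingCat.ofHom (algebraMap k B)) = g) :
    letI : Z.Over (Spec (CommRingCat.of k)) := ⟨g⟩
    Module.finrank k (Coh.HH Z (Coh.structureModule Z) 0) = Module.finrank k B := by
  letI : Z.Over (Spec (CommRingCat.of k)) := ⟨g⟩
  let b : Γ(Z, ⊤) ≃+* B := ((CategoryTheory.asIso eB.inv.appTop) ≪≫
    Scheme.ΓSpecIso (CommRingCat.of B)).commRingCatIsoToRingEquiv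
  let E1 : Coh.HH Z (Coh.structureModule Z) 0 ≃+ B := (hh0 (Coh.structureModule Z)).trans b.toAddEquiv
  refine (E1.toLinearEquiv fun c z => ?_).finrank_eq
  show b (hh0 (Coh.structureModule Z) (Coh.toGlobal g c • z)) = c • E1 z
  rw [hh0_smul, Algebra.smul_def]
  show b ((show Γ(Z, ⊤) from Coh.toGlobal g c) * (show Γ(Z, ⊤) from hh0 (Coh.structureModule Z) z)) = _
  rw [map_mul]
  refine congrArg (· * _) ?_
  show (Scheme.ΓSpecIso (CommRingCat.of B)).hom (eB.inv.appTop (g.appTop ((Scheme.ΓSpecIso (CommRingCat.of k)).inv c))) = _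
  have hg : eB.inv ≫ g = Spec.map (CommRingCat.ofHom (algebraMap k B)) := by rw [← heB, Iso.inv_hom_id_assoc]
  rw [← CategoryTheory.comp_apply g.appTop eB.inv.appTop, ← Scheme.Hom.comp_appTop, hg, ← CategoryTheory.comp_apply,
    Scheme.ΓSpecIso_naturality, CategoryTheory.comp_apply, Iso.inv_hom_id_apply]
  rfl

/-- The spectrum of a field is curve-like. -/
theorem curveLike_point : letI : (Spec (CommRingCat.of k)).Over (Spec (CommRingCat.of k)) := ⟨𝟙 _⟩
    CurveLike k (Spec (CommRingCat.of k)) := by
  letI : (Spec (CommRingCat.of k)).Over (Spec (CommRingCat.of k)) := ⟨𝟙 _⟩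
  haveI : IsProper ((Spec (CommRingCat.of k)) ↘ Spec (CommRingCat.of k)) := inferInstanceAs (IsProper (𝟙 _))
  refine ⟨CohFound.isNoetherian_of_isProper ((Spec (CommRingCat.of k)) ↘ Spec (CommRingCat.of k)), inferInstance, ?_,
    fun M hM n => CohFound.finite_HH_of_isProper M hM n⟩
  haveI : Subsingleton (IrreducibleCloseds (Spec (CommRingCat.of k))) := ⟨fun a b => IrreducibleCloseds.ext
    (Set.ext fun z => by
      obtain ⟨x1, hx1⟩ := a.isIrreducible.nonempty
      obtain ⟨x2, hx2⟩ := b.isIrreducible.nonempty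
      exact ⟨fun _ => Subsingleton.elim x2 z ▸ hx2, fun _ => Subsingleton.elim x1 z ▸ hx1⟩)⟩
  exact Order.krullDim_nonpos_of_subsingleton.trans zero_le_one

/-- The rank of a free direct image over a field is the degree. -/
theorem rank_eq_finrank {Z : Scheme.{u}} (g : Z ⟶ Spec (CommRingCat.of k)) [IsFinite g] {m : ℕ}
    (e : pushO g ≅ FlatMod.freeMod (Spec (CommRingCat.of k)) m) :
    g.finrank (IsLocalRing.closedPoint k) = m := by
  haveI : IsAffine Z := isAffine_of_isAffineHom g
  obtain ⟨B, _, _, eB, heB⟩ := AlgSpDecent.exists_spec_form g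
  letI : Z.Over (Spec (CommRingCat.of k)) := ⟨g⟩
  letI : (Spec (CommRingCat.of k)).Over (Spec (CommRingCat.of k)) := ⟨𝟙 _⟩
  haveI : Module.Finite k B := by
    have h : IsFinite (eB.inv ≫ g) := inferInstance
    have h' : IsFinite (Spec.map (CommRingCat.ofHom (algebraMap k B))) := by
      rwa [← heB, Iso.inv_hom_id_assoc] at h
    rwa [IsFinite.SpecMap_iff, CommRingCat.hom_ofHom, RingHom.finite_algebraMap] at h'
  haveI : IsFinite (Spec.map (CommRingCat.ofHom (algebraMap k B))) := by
    rwa [IsFinite.SpecMap_iff, CommRingCat.hom_ofHom, RingHom.finite_algebraMap]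
  have h1 : g.finrank (IsLocalRing.closedPoint k) = Module.finrank k B := by
    rw [← heB, Scheme.Hom.finrank_comp_left_of_isIso, Scheme.Hom.finrank_SpecMap_algebraMap,
      Module.rankAtStalk_eq_finrank_of_free]
    rfl
  haveI : (Coh.structureModule Z).IsQuasicoherent := M1.isQCoh_structureModule Z
  obtain ⟨E⟩ := nonempty_hequiv_push k g (Category.comp_id g) (Coh.structureModule Z) 0
  have hvan : ∀ M : (Spec (CommRingCat.of k)).Modules, Coh.IsQCoh M →
      Curv2.euler k (Spec (CommRingCat.of k)) M = Module.finrank k (Coh.HH (Spec (CommRingCat.of k)) M 0) := by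
    intro M hM
    haveI := hM
    rw [Curv2.euler, finsum_eq_single _ 0 fun i hi => ?_]
    · simp
    · haveI := CohFound.subsingleton_HH_affine M i (Nat.pos_of_ne_zero hi)
      rw [Module.finrank_zero_of_subsingleton, Nat.cast_zero, mul_zero]
  have hO : Curv2.euler k (Spec (CommRingCat.of k)) (Coh.structureModule _) = 1 := by
    rw [hvan _ (M1.isQCoh_structureModule _)]
    have := finrank_H0_structure (𝟙 (Spec (CommRingCat.of k))) (Iso.refl _) (B := k) (by simp)
    rw [Module.finrank_self] at this
    exact_mod_cast this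
  have h3 : (Curv2.euler k (Spec (CommRingCat.of k)) (FlatMod.freeMod (Spec (CommRingCat.of k)) m)) = m := by
    rw [curveLike_point.euler_freeMod, hO, mul_one]
  rw [← CurveCoh17.euler_iso e, hvan _ (PushFin12.isQCoh_pushforward g _ (M1.isQCoh_structureModule Z))] at h3
  rw [h1, ← finrank_H0_structure g eB heB, ← E.finrank_eq]
  exact_mod_cast h3

end Groth.Agent.PushShear22
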