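import Groth.Agent.Lib.MumVan22.Apps

/-!
# The kernel of a transpose
-/

universe u

open CategoryTheory Limits MonoidalCategory CartesianMonoidalCategory AlgebraicGeometry TopologicalSpace Opposite
open scoped MonObj GrpObj

set_option linter.style.haveILetI false
set_option linter.unusedSectionVars false
set_option maxHeartbeats 1000000
set_option backward.isDefEq.respectTransparency false

noncomputable section

namespace Groth.Agent.MumVan22

open AlgEquiv22

noncomputable local instance instLawMVK (Y : Scheme.{u}) : PicGrp.Law Y := M2.law Y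

variable {k : Type u} [Field k] [IsAlgClosed k]

/-- Rational points lift along surjective morphisms. -/
theorem exists_lift_of_surjective {A B : Over (Spec (CommRingCat.of k))} [LocallyOfFiniteType A.hom]
    [LocallyOfFiniteType B.hom] (f : A ⟶ B) [Surjective f.left]
    (b : 𝟙_ (Over (Spec (CommRingCat.of k))) ⟶ B) : ∃ a : 𝟙_ (Over (Spec (CommRingCat.of k))) ⟶ A, a ≫ f = b := by
  haveI : JacobsonSpace A.left := LocallyOfFiniteType.jacobsonSpace A.hom
  haveI : JacobsonSpace B.left := LocallyOfFiniteType.jacobsonSpace B.hom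
  haveI : LocallyOfFiniteType (b.left ≫ B.hom) := by
    rw [Over.w b]; exact inferInstanceAs (LocallyOfFiniteType (𝟙 (Spec (CommRingCat.of k))))
  haveI : LocallyOfFiniteType b.left := locallyOfFiniteType_of_comp b.left B.hom
  have hbc : IsClosed ({CubeField.rpt b} : Set B.left) :=
    b.left.closePoints_subset_preimage_closedPoints (isClosed_discrete (α := Spec (CommRingCat.of k)) _)
  obtain ⟨z, hz⟩ := f.left.surjective (CubeField.rpt b)
  obtain ⟨x, hx, hxc⟩ := nonempty_inter_closedPoints (Z := f.left ⁻¹' {CubeField.rpt b}) ⟨z, hz⟩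
    (hbc.preimage f.left.continuous).isLocallyClosed
  obtain ⟨a, rfl⟩ := CubeField.exists_rpt (X := A) hxc
  exact ⟨a, CubeField.rpt_injective (X := B) (by rw [CubeField.rpt_comp]; exact hx)⟩

/-- An ample module is moved by some point of a positive-dimensional group variety. -/
theorem exists_moving {Y : Over (Spec (CommRingCat.of k))} [GrpObj Y] [IsProper Y.hom] [GeometricallyIntegral Y.hom]
    {L : Y.left.Modules} (hL : CohB1.IsAmple L) (hns : ¬ Subsingleton Y.left) :
    ∃ y : 𝟙_ (Over (Spec (CommRingCat.of k))) ⟶ Y,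
      pb (𝟙 Y * (toUnit Y ≫ y)) (PicGrp.cls L hL.1) ≠ PicGrp.cls L hL.1 := by
  classical
  haveI : JacobsonSpace Y.left := LocallyOfFiniteType.jacobsonSpace Y.hom
  haveI : IsIntegral Y.left := GeometricallyIntegral.isIntegral_of_subsingleton Y.hom
  by_contra hall
  push Not at hall
  have hfin : (closedPoints Y.left).Finite := by
    refine ((finite_fixing hL).image CubeField.rpt).subset fun z hz => ?_
    obtain ⟨p, rfl⟩ := CubeField.exists_rpt (X := Y) hz
    exact ⟨p, hall p, rfl⟩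
  have huniv : closedPoints Y.left = Set.univ := by
    have h1 : IsClosed (closedPoints Y.left) := by
      rw [← Set.biUnion_of_singleton (closedPoints Y.left)]
      exact hfin.isClosed_biUnion fun z hz => hz
    rw [← closure_closedPoints, h1.closure_eq]
  obtain ⟨W, hW, hsub⟩ := isIrreducible_iff_sUnion_isClosed.1 (IrreducibleSpace.isIrreducible_univ Y.left)
    (hfin.toFinset.image fun z => ({z} : Set Y.left))
    (fun T hT => by
      obtain ⟨z, hz, rfl⟩ := Finset.mem_image.1 hT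
      exact hfin.mem_toFinset.1 hz)
    (by
      intro z _
      exact ⟨{z}, Finset.mem_coe.2 (Finset.mem_image.2 ⟨z, hfin.mem_toFinset.2 (huniv ▸ trivial), rfl⟩), rfl⟩)
  obtain ⟨z, -, rfl⟩ := Finset.mem_image.1 hW
  exact hns ⟨fun a b => (hsub (Set.mem_univ a)).trans (hsub (Set.mem_univ b)).symm⟩

variable {A B : Over (Spec (CommRingCat.of k))} [GrpObj A] [IsProper A.hom] [GeometricallyIntegral A.hom]
  [GrpObj B] [IsProper B.hom] [GeometricallyIntegral B.hom]

/-- The points `b` with `φ_L(b)` killed by the transpose of a surjective homomorphism. -/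
theorem finite_transpose_kernel (α : A ⟶ B) [IsMonHom α] [Surjective α.left] {L : B.left.Modules}
    (hL : CohB1.IsAmple L) :
    {b : 𝟙_ (Over (Spec (CommRingCat.of k))) ⟶ B |
      pb α (pb (𝟙 B * (toUnit B ≫ b)) (PicGrp.cls L hL.1) * (PicGrp.cls L hL.1)⁻¹) = 1}.Finite := by
  haveI := isCommMonObj_of_isProper_of_geometricallyIntegral A
  haveI := isCommMonObj_of_isProper_of_geometricallyIntegral B
  set ℓ := PicGrp.cls L hL.1
  obtain ⟨Z, hZ, hmem0⟩ := exists_isClosed_trivial (A := A) (T := B)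
    (pb ((fst A B ≫ α) * snd A B) ℓ * (pb (fst A B ≫ α) ℓ)⁻¹)
  have hmem : ∀ b, CubeField.rpt b ∈ Z ↔ pb α (pb (𝟙 B * (toUnit B ≫ b)) ℓ * ℓ⁻¹) = 1 := fun b => by
    rw [hmem0]
    simp only [map_mul, map_inv, pb_pb, MonObj.comp_mul, lift_fst_assoc, lift_snd, Category.id_comp,
      Category.comp_id, comp_toUnit_assoc]
  have hφ : ∀ a b : 𝟙_ (Over (Spec (CommRingCat.of k))) ⟶ B,
      pb (𝟙 B * (toUnit B ≫ (a * b))) ℓ * ℓ⁻¹ =
        (pb (𝟙 B * (toUnit B ≫ a)) ℓ * ℓ⁻¹) * (pb (𝟙 B * (toUnit B ≫ b)) ℓ * ℓ⁻¹) := fun a b => by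
    have h1 := inv_translate_div ℓ b a
    rw [map_mul, map_inv, pb_pb, show (𝟙 B * (toUnit B ≫ a)) ≫ (𝟙 B * (toUnit B ≫ b)) = 𝟙 B * (toUnit B ≫ (a * b)) by
      rw [MonObj.comp_mul, Category.comp_id, comp_toUnit_assoc, _root_.mul_assoc, ← MonObj.comp_mul],
      mul_inv_eq_iff_eq_mul] at h1
    rw [h1, _root_.mul_comm (pb (𝟙 B * (toUnit B ≫ b)) ℓ * ℓ⁻¹), _root_.mul_assoc, _root_.mul_assoc]
    ac_rfl
  have hmul : ∀ a b, CubeField.rpt a ∈ Z → CubeField.rpt b ∈ Z → CubeField.rpt (a * b⁻¹) ∈ Z := by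
    intro a b ha hb
    rw [hmem] at ha hb ⊢
    have h := (congrArg (pb α) (hφ (a * b⁻¹) b)).trans (map_mul (pb α) _ _)
    rw [inv_mul_cancel_right, ha, hb, _root_.mul_one] at h
    exact h.symm
  by_contra hinf
  have hZinf : Z.Infinite := fun hf => hinf (Set.Finite.of_finite_image (hf.subset (by
    rintro _ ⟨a, ha, rfl⟩
    exact (hmem a).2 ha)) CubeField.rpt_injective.injOn)
  obtain ⟨Y, _, _, i, _, hci, hrange, hns⟩ := exists_subgroup_of_infinite hZ hZinf hmul
  haveI := hci
  haveI : IsProper Y.hom := by rw [← Over.w i]; infer_instance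
  haveI := isCommMonObj_of_isProper_of_geometricallyIntegral Y
  have hker : ∀ y : 𝟙_ (Over (Spec (CommRingCat.of k))) ⟶ Y, pb (α * (toUnit A ≫ y ≫ i)) ℓ = pb α ℓ := fun y => by
    have h := (hmem (y ≫ i)).1 (by rw [CubeField.rpt_comp]; exact hrange ⟨_, rfl⟩)
    rw [map_mul, map_inv, mul_inv_eq_one, pb_pb, MonObj.comp_mul, Category.comp_id, comp_toUnit_assoc] at h
    exact h
  let d := pb ((fst A Y ≫ α) * (snd A Y ≫ i)) ℓ * (pb (fst A Y ≫ α) ℓ * pb (snd A Y ≫ i) ℓ)⁻¹
  obtain ⟨N, hN, hd⟩ := PicGrp.exists_eq_cls d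
  have ht : CubeField.IsTriv N := by
    refine CubeField.isTriv_of_point_slices (1 : 𝟙_ _ ⟶ A) CubeField.finH1 N hN (fun y => ?_) ?_
    · rw [isTriv_iff _ hN, ← hd]
      simp only [d, map_mul, map_inv, pb_pb, MonObj.comp_mul, lift_fst_assoc, lift_snd_assoc, Category.id_comp,
        Category.assoc, pb_const, hker, _root_.mul_one, mul_inv_cancel]
    · rw [isTriv_iff _ hN, ← hd]
      simp only [d, map_mul, map_inv, pb_pb, MonObj.comp_mul, lift_fst_assoc, lift_snd_assoc, Category.id_comp,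
        Category.assoc, pb_const, _root_.one_mul]
      rw [MonObj.one_comp, MonObj.comp_one, _root_.one_mul, mul_inv_cancel]
  have h1 : d = 1 := hd.trans ((PicGrp.cls_eq_one_iff _).2 ht)
  have hAY : CohB1.IsAmple ((Scheme.Modules.pullback i.left).obj L) := Amp.isAmple_pullback_of_isAffineHom _ hL
  have hℓY : PicGrp.cls _ hAY.1 = pb i ℓ := (PicGrp.pullHom_cls _ _ _ _).symm
  obtain ⟨y', hy'⟩ := exists_moving hAY hns
  obtain ⟨a, ha⟩ := exists_lift_of_surjective α (y' ≫ i)
  refine hy' ?_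
  have h2 := congrArg (pb (lift (toUnit Y ≫ a) (𝟙 Y))) h1
  simp only [d, map_mul, map_inv, map_one, pb_pb, MonObj.comp_mul, lift_fst_assoc, lift_snd_assoc, Category.id_comp,
    Category.assoc, ha, pb_const, _root_.one_mul, mul_inv_eq_one] at h2
  rw [hℓY, pb_pb, MonObj.mul_comp, Category.id_comp, Category.assoc, _root_.mul_comm i]
  exact h2

/-- The transpose of a surjective homomorphism has finite kernel on classes algebraically equivalent to zero. -/
theorem exists_finite_kernel (α : A ⟶ B) [IsMonHom α] [Surjective α.left] :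
    ∃ (n : ℕ) (N : Fin n → B.left.Modules), ∀ M : B.left.Modules, ∀ hM : PicF.IsInvertible M,
      Inv (PicGrp.cls M hM) → Nonempty ((Scheme.Modules.pullback α.left).obj M ≅ Coh.structureModule A.left) →
        ∃ j, Nonempty (M ≅ N j) := by
  classical
  obtain ⟨L, hL⟩ := CubeField.exists_isAmple (A := B)
  have hS := finite_transpose_kernel α hL
  choose N hN hcN using fun b : hS.toFinset => PicGrp.exists_eq_cls
    (pb (𝟙 B * (toUnit B ≫ b.1)) (PicGrp.cls L hL.1) * (PicGrp.cls L hL.1)⁻¹)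
  refine ⟨hS.toFinset.card, fun j => N (hS.toFinset.equivFin.symm j), fun M hM hinv ⟨e⟩ => ?_⟩
  obtain ⟨b, hb⟩ := exists_translate hL.1 hM hinv (finite_fixing hL)
  have hbS : b ∈ hS.toFinset := hS.mem_toFinset.2 (by
    rw [Set.mem_setOf_eq, hb, pb, PicGrp.pullHom_cls, PicGrp.cls_eq_one_iff]
    exact ⟨e⟩)
  refine ⟨hS.toFinset.equivFin ⟨b, hbS⟩, ?_⟩
  simp only [Equiv.symm_apply_apply]
  exact (PicGrp.cls_eq_cls_iff hM (hN _)).1 (hb.symm.trans (hcN ⟨b, hbS⟩))

end Groth.Agent.MumVan22
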