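import Groth.Agent.Lib.CBC10.PullModel
import Groth.Agent.Lib.CBC10.Down
import Groth.Agent.Lib.CBC10.Fib
import Groth.Agent.Lib.FlatCx.FlatCoeff

/-!
# Classes of a base change along a vector space of scalars

Over a field every class of the inverse image on a base change is a combination, with coefficients in the new
scalars, of pullbacks of classes.
-/

set_option autoImplicit false
set_option linter.style.haveILetI false
set_option maxHeartbeats 1000000

universe u

open CategoryTheory CategoryTheory.Limits AlgebraicGeometry TopologicalSpace Opposite TensorProduct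

noncomputable section

namespace Groth.Agent.MumVan22

open Groth.Agent.CBC10

open CohFound in
attribute [-instance] abelianAb hasExtAb isGrothendieckAbelianAb enoughInjectivesAb

variable {k B : Type u} [Field k] [CommRing B] [Algebra k B] {X X' : Scheme.{u}}
  [X.Over (Spec (CommRingCat.of k))] [X'.Over (Spec (CommRingCat.of B))] [X'.Over (Spec (CommRingCat.of k))]

/-- Every class upstairs is a combination of pullbacks. -/
theorem exists_coeff [X.IsSeparated] [CompactSpace X] {g : X' ⟶ X} (h : Sq (A := k) (B := B) g) {F : X.Modules}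
    (hF : Coh.IsQCoh F) {N : X'.Modules} (φ : (Scheme.Modules.pullback g).obj F ≅ N) (p : ℕ) (z : Coh.HH X' N p) :
    ∃ (n : ℕ) (c : Fin n → B) (x : Fin n → Coh.HH X F p),
      z = ∑ j, c j • pullF g.base (abMap g (unitTo φ)) p (x j) := by
  haveI := affine_of_sq h
  obtain ⟨ι, _, U, hcov, hU₀⟩ := exists_finite_affine_cover X
  have hU := isAffineOpen_tupOpen (U := U) hU₀
  obtain ⟨Φ, Φ', hΦ', hΦ⟩ := exists_pullModel hcov hU h hF φ
  let e := fun M : ModuleCat.{u} k => ((downIso (K k U F) (p : ℤ)).app M).toLinearEquiv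
  obtain ⟨t, rfl⟩ := (Φ' p).surjective z
  obtain ⟨t', rfl⟩ := (e (ModuleCat.of k B)).surjective t
  obtain ⟨w, rfl⟩ := (FlatCxLib.theta_bijective_of_flat (down (K k U F)) (p := -(p : ℤ)) B).2 t'
  induction w using TensorProduct.induction_on with
  | zero =>
    exact ⟨0, Fin.elim0, Fin.elim0, (congrArg (fun t => Φ' p (e (ModuleCat.of k B) t)) (map_zero _)).trans
      ((congrArg (Φ' p) (map_zero (e (ModuleCat.of k B)))).trans ((map_zero (Φ' p)).trans (Finset.sum_empty).symm))⟩
  | tmul η b =>
    refine ⟨1, fun _ => b, fun _ => Φ p (e (ModuleCat.of k k) η), ?_⟩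
    rw [Fin.sum_univ_one]
    have hn : ∀ {M M' : ModuleCat.{u} k} (l : M ⟶ M') y,
        e M' ((CohIII.TFun (down (K k U F)) (-(p : ℤ))).map l y) = (CohIII.TFun (K k U F) (p : ℤ)).map l (e M y) :=
      fun {M M'} l y => ConcreteCategory.congr_hom ((downIso (K k U F) (p : ℤ)).hom.naturality l) y
    have hl : LinearMap.toSpanSingleton k B b = (LinearMap.mulLeft k b).comp (Algebra.linearMap k B) := by
      ext
      simp
    refine Eq.trans ?_ ((hΦ' p b _).trans (congrArg (b • ·) (hΦ p (e (ModuleCat.of k k) η)).symm))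
    refine congrArg (Φ' p) ?_
    rw [FlatCxLib.theta_tmul, hl]
    refine (hn (ModuleCat.ofHom ((LinearMap.mulLeft k b).comp (Algebra.linearMap k B))) η).trans ?_
    exact ConcreteCategory.congr_hom ((CohIII.TFun (K k U F) (p : ℤ)).map_comp
      (ModuleCat.ofHom (Algebra.linearMap k B)) (ModuleCat.ofHom (LinearMap.mulLeft k b))) (e (ModuleCat.of k k) η)
  | add a b ha hb =>
    obtain ⟨n, c, x, hx⟩ := ha
    obtain ⟨m, d, y, hy⟩ := hb
    refine ⟨n + m, Fin.append c d, Fin.append x y, ?_⟩
    rw [Fin.sum_univ_add]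
    simp only [Fin.append_left, Fin.append_right]
    rw [← hx, ← hy]
    exact (congrArg (fun t => Φ' p (e (ModuleCat.of k B) t)) (map_add _ a b)).trans
      ((congrArg (Φ' p) (map_add (e (ModuleCat.of k B)) _ _)).trans (map_add (Φ' p) _ _))

end Groth.Agent.MumVan22
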