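import Groth.Agent.Lib.MumVan22.Apps
import Groth.Agent.Lib.MumVan22.EulerFam

/-!
# Degenerate classes: no cohomology, Euler characteristic zero
-/

universe u

open CategoryTheory Limits MonoidalCategory CartesianMonoidalCategory AlgebraicGeometry TopologicalSpace Opposite
open scoped MonObj GrpObj

set_option linter.style.haveILetI false
set_option linter.unusedSectionVars false
set_option maxHeartbeats 1000000
set_option backward.isDefEq.respectTransparency false

noncomputable section

namespace Groth.Agent.MumVan22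

open AlgEquiv22 Groth.Agent.CBC10

open CohFound in
attribute [-instance] abelianAb hasExtAb isGrothendieckAbelianAb enoughInjectivesAb

noncomputable local instance instLawMVD (Y : Scheme.{u}) : PicGrp.Law Y := M2.law Y

/-- A projection with a section is injective on cohomology. -/
theorem subsingleton_of_section {X Z : Scheme.{u}} {sec : X ⟶ Z} {π : Z ⟶ X} (hι : sec ≫ π = 𝟙 X) {M : X.Modules}
    (hM : Coh.IsQCoh M) (p : ℕ) (h : Subsingleton (Coh.HH Z ((Scheme.Modules.pullback π).obj M) p)) :
    Subsingleton (Coh.HH X M p) := by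
  obtain ⟨r, hr⟩ := exists_slice hι M
  let a := (Scheme.Modules.pullbackPushforwardAdjunction π).unit.app M
  let b : M ⟶ (Scheme.Modules.pushforward (𝟙 X)).obj M := (Scheme.Modules.pushforwardId X).inv.app M
  haveI : IsIso b := inferInstanceAs (IsIso ((Scheme.Modules.pushforwardId X).inv.app M))
  have hb : pc hι a r = b := by
    refine Scheme.Modules.hom_ext _ _ fun W => AddCommGrpCat.ext fun s => ?_
    have e : (𝟙 X : X ⟶ X) ⁻¹ᵁ W ≤ sec ⁻¹ᵁ (π ⁻¹ᵁ W) := by rw [← Scheme.Hom.comp_preimage, hι]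
    refine (pc_app hι a r W e s).trans ?_
    exact hr W s e
  refine ⟨fun x y => pullF_injective (𝟙 X) hM b p ?_⟩
  rw [← hb]
  exact (pullF_pullF hι a r p x).symm.trans ((congrArg _ (h.elim _ _)).trans (pullF_pullF hι a r p y))

variable {k : Type u} [Field k] [IsAlgClosed k] {A : Over (Spec (CommRingCat.of k))} [GrpObj A] [IsProper A.hom]
  [GeometricallyIntegral A.hom] {Y : Over (Spec (CommRingCat.of k))} [GrpObj Y] [IsProper Y.hom]
  [GeometricallyIntegral Y.hom]

/-- If `Y` fixes a class, the restriction to `Y` of all its translates is the same. -/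
theorem pb_fixed_translate (i : Y ⟶ A) [IsMonHom i] {c : PicLoc.PicSet A.left}
    (hfix : ∀ y : 𝟙_ (Over (Spec (CommRingCat.of k))) ⟶ Y, pb (𝟙 A * (toUnit A ≫ y ≫ i)) c = c)
    (x : 𝟙_ (Over (Spec (CommRingCat.of k))) ⟶ A) : pb (i * (toUnit Y ≫ x)) c = pb i c := by
  haveI := isCommMonObj_of_isProper_of_geometricallyIntegral A
  let d := pb (fst A Y * (snd A Y ≫ i)) c * (pb (fst A Y) c * pb (snd A Y ≫ i) c)⁻¹
  obtain ⟨N, hN, hd⟩ := PicGrp.exists_eq_cls d
  have ht : CubeField.IsTriv N := by
    refine CubeField.isTriv_of_point_slices (1 : 𝟙_ _ ⟶ A) CubeField.finH1 N hN (fun y => ?_) ?_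
    · rw [isTriv_iff _ hN, ← hd]
      simp only [d, map_mul, map_inv, pb_pb, MonObj.comp_mul, lift_fst, lift_snd_assoc, Category.assoc]
      rw [hfix, pb_const, pb_id, _root_.mul_one, mul_inv_cancel]
    · rw [isTriv_iff _ hN, ← hd]
      simp only [d, map_mul, map_inv, pb_pb, MonObj.comp_mul, lift_fst, lift_snd_assoc, Category.id_comp, pb_const,
        _root_.one_mul]
      rw [MonObj.comp_one, _root_.one_mul, mul_inv_cancel]
  have h1 : d = 1 := hd.trans ((PicGrp.cls_eq_one_iff _).2 ht)
  have h2 := congrArg (pb (lift (toUnit Y ≫ x) (𝟙 Y))) h1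
  simp only [d, map_mul, map_inv, map_one, pb_pb, MonObj.comp_mul, lift_fst, lift_snd_assoc, Category.id_comp,
    pb_const, _root_.one_mul, mul_inv_eq_one] at h2
  rw [_root_.mul_comm i]
  exact h2

/-- A class fixed by `Y` and nontrivial on `Y` has no cohomology. -/
theorem subsingleton_of_fixed (i : Y ⟶ A) [IsMonHom i] {L : A.left.Modules} (hL : PicF.IsInvertible L)
    (hfix : ∀ y : 𝟙_ (Over (Spec (CommRingCat.of k))) ⟶ Y, pb (𝟙 A * (toUnit A ≫ y ≫ i)) (PicGrp.cls L hL) = PicGrp.cls L hL)
    (hinv : Inv (pb i (PicGrp.cls L hL))) (hne : pb i (PicGrp.cls L hL) ≠ 1) (p : ℕ) :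
    Subsingleton (Coh.HH A.left L p) := by
  classical
  haveI := isCommMonObj_of_isProper_of_geometricallyIntegral A
  haveI : IsLocallyNoetherian A.left := LocallyOfFiniteType.isLocallyNoetherian A.hom
  haveI : CompactSpace A.left := QuasiCompact.compactSpace_of_compactSpace A.hom
  haveI : IsNoetherian A.left := {}
  let m : Y ⊗ A ⟶ A := (fst Y A ≫ i) * snd Y A
  let N := (Scheme.Modules.pullback m.left).obj L
  have hN : PicF.IsInvertible N := PicLoc.isInvertible_pullback _ hL
  have hcoh : Coh.IsCoh N := CubeField.isCoh_of_isInvertible hN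
  haveI : IsProper (snd Y A).left := inferInstanceAs (IsProper (pullback.snd Y.hom A.hom))
  haveI : Flat (snd Y A).left := AbRigid.flat_snd_left Y A
  have hpb : ∀ t : 𝟙_ (Over (Spec (CommRingCat.of k))) ⟶ A,
      IsPullback (sl Y t).left Y.hom (snd Y A).left t.left := by
    intro t
    have hg : t.left ≫ A.hom = 𝟙 (Spec (CommRingCat.of k)) := Over.w t
    refine IsPullback.of_right ?_ ?_ (IsPullback.of_hasPullback Y.hom A.hom)
    · have h1 : (sl Y t).left ≫ pullback.fst Y.hom A.hom = 𝟙 Y.left := congrArg CommaMorphism.left (lift_fst (𝟙 Y) _)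
      rw [h1, hg]
      exact IsPullback.of_horiz_isIso ⟨by rw [Category.comp_id]; exact Category.id_comp _⟩
    · rw [← Over.comp_left, lift_snd, Over.comp_left, Over.toUnit_left]
  have hcls : PicGrp.cls N hN = pb m (PicGrp.cls L hL) := (PicGrp.pullHom_cls _ _ _ _).symm
  have hS : ∀ (t : 𝟙_ (Over (Spec (CommRingCat.of k))) ⟶ A) (p : ℕ),
      Subsingleton (CohIII.fiberH (snd Y A).left N (CubeField.rpt t) p) := fun t p => by
    have e : pb (sl Y t) (PicGrp.cls N hN) = pb i (PicGrp.cls L hL) := by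
      rw [hcls, pb_pb, MonObj.comp_mul, lift_fst_assoc, lift_snd, Category.id_comp, pb_fixed_translate i hfix t]
    exact (subsingleton_fiber_iff (snd Y A) _ t (hpb t) hN p).2
      (subsingleton_slice (sl Y t) hN (e ▸ hinv) (e ▸ hne) p)
  have htop : Van (snd Y A).left N ⊤ := van_of_fibres_qc (snd Y A).left hcoh (isFlatOver_proj (snd Y A) hN)
    (fibres_of_closed _ hcoh (isFlatOver_proj (snd Y A) hN) (O := ⊤) fun t _ => hS t) isCompact_univ le_top
  have hHN : Subsingleton (Coh.HH (Y ⊗ A).left N p) := by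
    exact (CohFound.subsingleton_HH_iff N p).2 (htop p)
  let σ : Y ⊗ A ⟶ Y ⊗ A := lift (fst Y A) m
  haveI : IsIso σ := by
    refine ⟨lift (fst Y A) ((fst Y A ≫ i)⁻¹ * snd Y A), ?_, ?_⟩
    · refine CartesianMonoidalCategory.hom_ext _ _ (by simp [σ]) ?_
      simp only [σ, m, Category.assoc, lift_snd, MonObj.comp_mul, GrpObj.comp_inv, lift_fst_assoc, Category.id_comp,
        lift_snd, inv_mul_cancel_left]
    · refine CartesianMonoidalCategory.hom_ext _ _ (by simp [σ]) ?_
      simp only [σ, m, Category.assoc, lift_snd, MonObj.comp_mul, lift_fst_assoc, Category.id_comp,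
        mul_inv_cancel_left]
  haveI : IsIso σ.left := inferInstanceAs (IsIso ((Over.forget _).map σ))
  have hLs : PicF.IsInvertible ((Scheme.Modules.pullback (snd Y A).left).obj L) := PicLoc.isInvertible_pullback _ hL
  have h3 : Subsingleton (Coh.HH (Y ⊗ A).left ((Scheme.Modules.pullback (snd Y A).left).obj L) p) := by
    refine (subsingleton_HH_iso_iff σ.left hLs p).1 ?_
    have hσ : σ.left ≫ (snd Y A).left = m.left := by rw [← Over.comp_left, lift_snd]
    let i' := (Scheme.Modules.pullbackComp σ.left (snd Y A).left).app L ≪≫ (Scheme.Modules.pullbackCongr hσ).app L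
    exact (CBC10.hmapEquiv i' p).toEquiv.subsingleton
  refine subsingleton_of_section (sec := (lift (toUnit A ≫ 1) (𝟙 A) : A ⟶ Y ⊗ A).left) (π := (snd Y A).left) ?_
    (M2.isQCoh_of_isFinLocFree (M2.isFinLocFree_of_isInvertible hL)) p h3
  rw [← Over.comp_left, lift_snd, Over.id_left]

end Groth.Agent.MumVan22
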