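import Groth.Agent.Lib.MumVan22.Setup
import Mathlib.AlgebraicGeometry.Properties

/-!
# Evaluation of functions at rational points
-/

universe u

open CategoryTheory Limits MonoidalCategory CartesianMonoidalCategory AlgebraicGeometry TopologicalSpace Opposite
open scoped MonObj GrpObj

set_option linter.style.haveILetI false
set_option linter.unusedSectionVars false
set_option maxHeartbeats 1000000
set_option backward.isDefEq.respectTransparency false

noncomputable section

namespace Groth.Agent.MumVan22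

open Groth.Agent.M1

variable {k : Type u} [Field k] {X Y : Over (Spec (CommRingCat.of k))}

theorem top_le_pre (c : 𝟙_ (Over (Spec (CommRingCat.of k))) ⟶ X) {U : X.left.Opens} (h : CubeField.rpt c ∈ U) :
    (⊤ : (𝟙_ (Over (Spec (CommRingCat.of k)))).left.Opens) ≤ c.left ⁻¹ᵁ U := fun z _ => by
  rw [Subsingleton.elim (α := PrimeSpectrum k) z (IsLocalRing.closedPoint k)]
  exact h

/-- The value at a rational point. -/
def ev (c : 𝟙_ (Over (Spec (CommRingCat.of k))) ⟶ X) (U : X.left.Opens) (h : CubeField.rpt c ∈ U) :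
    Γ(X.left, U) →+* k :=
  ((Scheme.ΓSpecIso (CommRingCat.of k)).hom.hom).comp (c.left.appLE U ⊤ (top_le_pre c h)).hom

theorem ev_res (c : 𝟙_ (Over (Spec (CommRingCat.of k))) ⟶ X) {U V : X.left.Opens} (hle : V ≤ U)
    (h : CubeField.rpt c ∈ V) (r : Γ(X.left, U)) : ev c V h (ores hle r) = ev c U (hle h) r :=
  congrArg (Scheme.ΓSpecIso (CommRingCat.of k)).hom (PicDesc21.appLE_ores c.left hle (top_le_pre c h) r)

theorem ev_appLE (c : 𝟙_ (Over (Spec (CommRingCat.of k))) ⟶ X) (f : X ⟶ Y) {U : Y.left.Opens} {W : X.left.Opens}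
    (e : W ≤ f.left ⁻¹ᵁ U) (h : CubeField.rpt c ∈ W) (r : Γ(Y.left, U)) :
    ev c W h (f.left.appLE U W e r) = ev (c ≫ f) U (by rw [CubeField.rpt_comp]; exact e h) r := by
  refine congrArg (Scheme.ΓSpecIso (CommRingCat.of k)).hom ?_
  exact PicDesc21.appLE_appLE c.left f.left e (top_le_pre c h) r

theorem ev_congr {c c' : 𝟙_ (Over (Spec (CommRingCat.of k))) ⟶ X} (e : c = c') {U : X.left.Opens}
    (h : CubeField.rpt c ∈ U) (r : Γ(X.left, U)) : ev c U h r = ev c' U (e ▸ h) r := by
  subst e; rfl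

theorem ev_global (c : 𝟙_ (Over (Spec (CommRingCat.of k))) ⟶ X) {U : X.left.Opens} (h : CubeField.rpt c ∈ U)
    (κ : k) : ev c U h (ores (le_top : U ≤ ⊤) (Coh.toGlobal X.hom κ : Γ(X.left, ⊤))) = κ := by
  rw [ev_res]
  show (Scheme.ΓSpecIso (CommRingCat.of k)).hom (c.left.appLE ⊤ ⊤ _
    (X.hom.appTop ((Scheme.ΓSpecIso (CommRingCat.of k)).inv κ))) = κ
  rw [show c.left.appLE ⊤ ⊤ (top_le_pre c trivial) = c.left.appTop from c.left.appLE_eq_app,
    ← CategoryTheory.comp_apply X.hom.appTop c.left.appTop, ← Scheme.Hom.comp_appTop, Over.w]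
  show (Scheme.ΓSpecIso (CommRingCat.of k)).hom ((𝟙 (Spec (CommRingCat.of k)) : _ ⟶ _).appTop _) = κ
  rw [Scheme.Hom.id_appTop]
  exact Iso.inv_hom_id_apply (Scheme.ΓSpecIso (CommRingCat.of k)) κ

/-- A function which vanishes at every rational point vanishes. -/
theorem eq_zero_of_ev [IsAlgClosed k] [LocallyOfFiniteType X.hom] [IsReduced X.left] {U : X.left.Opens}
    (d : Γ(X.left, U)) (hd : ∀ c (h : CubeField.rpt c ∈ U), ev c U h d = 0) : d = 0 := by
  haveI : JacobsonSpace X.left := LocallyOfFiniteType.jacobsonSpace X.hom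
  refine (basicOpen_eq_bot_iff d).1 ?_
  by_contra hne
  obtain ⟨x, hxd, hxc⟩ := nonempty_inter_closedPoints (Z := (X.left.basicOpen d : Set X.left))
    (Set.nonempty_iff_ne_empty.2 fun h => hne (SetLike.coe_injective (h.trans Opens.coe_bot.symm)))
    (X.left.basicOpen d).isOpen.isLocallyClosed
  obtain ⟨c, rfl⟩ := CubeField.exists_rpt (X := X) hxc
  have hu : IsUnit (ev c _ hxd (ores (X.left.basicOpen_le d) d)) :=
    (X.left.toRingedSpace.isUnit_res_basicOpen d).map _
  rw [ev_res, hd] at hu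
  exact not_isUnit_zero hu

/-- A rational point in an open lifts to it. -/
theorem exists_lift_open {A : Over (Spec (CommRingCat.of k))} (c : 𝟙_ (Over (Spec (CommRingCat.of k))) ⟶ A)
    (V : A.left.Opens) (h : CubeField.rpt c ∈ V) :
    ∃ c' : 𝟙_ (Over (Spec (CommRingCat.of k))) ⟶ Vo V, c' ≫ inc V = c := by
  have hr : Set.range c.left ⊆ Set.range V.ι := by
    rintro _ ⟨z, rfl⟩
    rw [Scheme.Opens.range_ι, Subsingleton.elim (α := PrimeSpectrum k) z (IsLocalRing.closedPoint k)]
    exact h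
  refine ⟨Over.homMk (IsOpenImmersion.lift V.ι c.left hr) ?_, Over.OverMorphism.ext (IsOpenImmersion.lift_fac _ _ _)⟩
  show IsOpenImmersion.lift V.ι c.left hr ≫ V.ι ≫ A.hom = _
  rw [IsOpenImmersion.lift_fac_assoc, Over.w]

end Groth.Agent.MumVan22
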