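import Groth.Agent.Lib.MumVan22.Eval

/-!
# A class of an additive invertible module produces a section

If `M` is invertible, `μ^* M ≅ p^* M ⊗ q^* M` and some `H^p(A, M) ≠ 0`, then `H^0(A, M) ≠ 0`.
-/

universe u

open CategoryTheory Limits MonoidalCategory CartesianMonoidalCategory AlgebraicGeometry TopologicalSpace Opposite
open scoped MonObj GrpObj

set_option linter.style.haveILetI false
set_option linter.unusedSectionVars false
set_option maxHeartbeats 2000000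
set_option backward.isDefEq.respectTransparency false

noncomputable section

namespace Groth.Agent.MumVan22

open Groth.Agent.M1 Groth.Agent.Twist Groth.Agent.CBC10

open CohFound in
attribute [-instance] abelianAb hasExtAb isGrothendieckAbelianAb enoughInjectivesAb

noncomputable local instance instLawMVG (Y : Scheme.{u}) : PicGrp.Law Y := M2.law Y

variable {k : Type u} [Field k] {A : Over (Spec (CommRingCat.of k))}

/-- The identity as a map into the direct image along the identity. -/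
def idA (M : A.left.Modules) : M ⟶ (Scheme.Modules.pushforward (𝟙 A.left)).obj M :=
  (Scheme.Modules.pushforwardId A.left).inv.app M

theorem idA_app (M : A.left.Modules) (W : A.left.Opens) (s : Γ(M, W)) :
    (show Γ(M, (𝟙 A.left) ⁻¹ᵁ W) from (idA M).app W s) = M1.mres M (le_refl W) s := by
  rw [M1.mres_id]; rfl

theorem pushRes {Z X : Scheme.{u}} (f : Z ⟶ X) {N : X.Modules} {P : Z.Modules}
    (r : N ⟶ (Scheme.Modules.pushforward f).obj P) {O O' : X.Opens} (h : O ≤ O') (n : Γ(N, O')) {U : Z.Opens}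
    (e : U ≤ f ⁻¹ᵁ O) :
    M1.mres P e (show Γ(P, f ⁻¹ᵁ O) from r.app O (M1.mres N h n)) =
      M1.mres P (e.trans (f.preimage_mono h)) (show Γ(P, f ⁻¹ᵁ O') from r.app O' n) := by
  rw [M1.app_mres]
  exact M1.mres_mres P (f.preimage_mono h) e _

theorem pushResSmul {Z X : Scheme.{u}} (f : Z ⟶ X) {N : X.Modules} {P : Z.Modules}
    (r : N ⟶ (Scheme.Modules.pushforward f).obj P) {O O' : X.Opens} (h : O ≤ O') (g : Γ(X, O)) (n : Γ(N, O'))
    {U : Z.Opens} (e : U ≤ f ⁻¹ᵁ O) :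
    M1.mres P e (show Γ(P, f ⁻¹ᵁ O) from r.app O (g • M1.mres N h n)) =
      f.appLE O U e g • M1.mres P (e.trans (f.preimage_mono h)) (show Γ(P, f ⁻¹ᵁ O') from r.app O' n) := by
  rw [Scheme.Modules.Hom.app_smul]
  show M1.mres P e (f.app O g • (show Γ(P, f ⁻¹ᵁ O) from r.app O (M1.mres N h n))) = _
  rw [M1.mres_smul, pushRes f r h n e, PicDesc21.app_res]

/-- `a_c` at `c = 0` is a multiple of the identity. -/
theorem pullF_of_eq_id [GrpObj A] [IsProper A.hom] [GeometricallyIntegral A.hom] [IsAlgClosed k] {t : A.left ⟶ A.left}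
    (ht : t = 𝟙 _) {M : A.left.Modules} (hM : PicF.IsInvertible M) (hne : ∃ (W : A.left.Opens) (s : Γ(M, W)), s ≠ 0)
    (a : M ⟶ (Scheme.Modules.pushforward t).obj M)
    (ha : ∃ (W : A.left.Opens) (s : Γ(M, W)), (show Γ(M, t ⁻¹ᵁ W) from a.app W s) ≠ 0) (p : ℕ) :
    letI : A.left.Over (Spec (CommRingCat.of k)) := ⟨A.hom⟩
    ∃ κ : k, κ ≠ 0 ∧ ∀ x : Coh.HH A.left M p,
      pullF t.base (abMap t a) p x = κ • pullF (𝟙 A.left : A.left ⟶ A.left).base (abMap (𝟙 A.left) (idA M)) p x := by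
  letI : A.left.Over (Spec (CommRingCat.of k)) := ⟨A.hom⟩
  subst ht
  obtain ⟨W, s, hs⟩ := hne
  obtain ⟨κ, hκ⟩ := exists_scalar hM ((Scheme.Modules.pullbackId A.left).app M) (idA M) a
    ⟨W, s, fun h => hs (((idA_app M W s).trans (M1.mres_id M le_rfl s)).symm.trans h)⟩
  refine ⟨κ, ?_, fun x => pullF_smul_hom (𝟙 A.left) (idA M) a (Coh.toGlobal A.hom κ) hκ p x⟩
  rintro rfl
  obtain ⟨W', s', hs'⟩ := ha
  refine hs' ?_
  rw [hκ, map_zero]
  erw [map_zero, zero_smul]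

variable [GrpObj A] [IsProper A.hom] [GeometricallyIntegral A.hom] [IsAlgClosed k]

/-- A nonzero class of an additive invertible module produces a section. -/
theorem nontrivial_H0 {M : A.left.Modules} (hM : PicF.IsInvertible M) (hadd : AlgEquiv22.Add (PicGrp.cls M hM))
    (p : ℕ) (x0 : Coh.HH A.left M p) (hx0 : x0 ≠ 0) : Nontrivial (Coh.HH A.left M 0) := by
  classical
  letI : A.left.Over (Spec (CommRingCat.of k)) := ⟨A.hom⟩
  haveI : IsIntegral A.left := GeometricallyIntegral.isIntegral_of_subsingleton A.hom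
  haveI : CompactSpace A.left := QuasiCompact.compactSpace_of_compactSpace A.hom
  haveI : A.left.IsSeparated := ⟨by rw [← terminal.comp_from A.hom]; infer_instance⟩
  haveI hMq : Coh.IsQCoh M := M2.isQCoh_of_isFinLocFree (M2.isFinLocFree_of_isInvertible hM)
  -- the pullback along the identity and a functional
  let E := pullF (𝟙 A.left : A.left ⟶ A.left).base (abMap (𝟙 A.left) (idA M)) p
  haveI : IsIso (idA M) := inferInstanceAs (IsIso ((Scheme.Modules.pushforwardId A.left).inv.app M))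
  let e0 : 𝟙_ (Over (Spec (CommRingCat.of k))) ⟶ A := 1
  obtain ⟨W0, ξ0, he0, -, hξ0, -⟩ := exists_small hM (CubeField.rpt e0)
  choose V ξ hyV hV hξ hVt using fun y => exists_small hM y
  have φ := fun y => exists_iso_mu hM hadd (V y) (hVt y)
  let a := fun y => (Scheme.Modules.pullbackPushforwardAdjunction (mu (V y)).left).homEquiv _ _ (φ y).some.hom
  have ha : ∀ y (W : A.left.Opens) (s : Γ(M, W)),
      (show Γ((Scheme.Modules.pullback (fst A (Vo (V y))).left).obj M, (mu (V y)).left ⁻¹ᵁ W) from (a y).app W s) =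
        (φ y).some.hom.app _ (M2.pullSec (mu (V y)).left M s) := fun y W s => by
    refine congrArg (fun f => Scheme.Modules.Hom.app f W s)
      ((Scheme.Modules.pullbackPushforwardAdjunction (mu (V y)).left).homEquiv_unit _ _ _)
  let z := fun y => pullF (mu (V y)).left.base (abMap (mu (V y)).left (a y)) p x0
  -- coefficients of the class
  have hz : ∀ y, ∃ (n : ℕ) (c : Fin n → Γ((Vo (V y)).left, ⊤)) (x : Fin n → Coh.HH A.left M p),
      ∀ (t : A.left ⟶ A.left) (c₁ : 𝟙_ (Over (Spec (CommRingCat.of k))) ⟶ Vo (V y))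
        (r : (Scheme.Modules.pullback (fst A (Vo (V y))).left).obj M ⟶
          (Scheme.Modules.pushforward (AlgEquiv22.sl A c₁).left).obj M)
        (_ : ∀ (W : A.left.Opens) (s : Γ(M, W)) (e : W ≤ (AlgEquiv22.sl A c₁).left ⁻¹ᵁ ((fst A (Vo (V y))).left ⁻¹ᵁ W)),
          M1.mres M e (r.app ((fst A (Vo (V y))).left ⁻¹ᵁ W) (M2.pullSec (fst A (Vo (V y))).left M s)) = s)
        (hk : (AlgEquiv22.sl A c₁).left ≫ (mu (V y)).left = t),
        pullF t.base (abMap t (pc hk (a y) r)) p x0 = ∑ j, ev c₁ ⊤ trivial (c j) • E (x j) := by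
    intro y
    haveI : IsAffine (V y : Scheme.{u}) := hV y
    letI : Algebra k Γ((Vo (V y)).left, ⊤) := RingHom.toAlgebra (R := k) (S := Γ((Vo (V y)).left, ⊤)) (Coh.toGlobal (Vo (V y)).hom)
    letI : (A ⊗ Vo (V y)).left.Over (Spec (CommRingCat.of Γ((Vo (V y)).left, ⊤))) :=
      ⟨(snd A (Vo (V y))).left ≫ (Vo (V y)).left.toSpecΓ⟩
    letI : (A ⊗ Vo (V y)).left.Over (Spec (CommRingCat.of k)) := ⟨(A ⊗ Vo (V y)).hom⟩
    obtain ⟨n, c, x, hx⟩ := exists_coeff (sq_fst (V y)) hMq (Iso.refl _) p (z y)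
    refine ⟨n, c, x, fun t c₁ r hr hk => ?_⟩
    rw [← pullF_pullF hk (a y) r p x0]
    refine (congrArg _ hx).trans ((map_sum _ _ _).trans (Finset.sum_congr rfl fun j _ => ?_))
    refine (pullF_smul _ r _ p _).trans ?_
    have hs : (AlgEquiv22.sl A c₁).left.appTop (Coh.toGlobal ((snd A (Vo (V y))).left ≫ (Vo (V y)).left.toSpecΓ) (c j)) =
        Coh.toGlobal A.hom (ev c₁ ⊤ trivial (c j)) := by
      show (AlgEquiv22.sl A c₁).left.appTop (((snd A (Vo (V y))).left ≫ (Vo (V y)).left.toSpecΓ).appTop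
        ((Scheme.ΓSpecIso _).inv (c j))) = A.hom.appTop ((Scheme.ΓSpecIso (CommRingCat.of k)).inv _)
      rw [Scheme.Hom.comp_appTop, CategoryTheory.comp_apply, Scheme.toSpecΓ_appTop]
      erw [Iso.inv_hom_id_apply]
      rw [show (Scheme.ΓSpecIso (CommRingCat.of k)).inv (ev c₁ ⊤ trivial (c j)) = c₁.left.appLE ⊤ ⊤ (top_le_pre c₁ trivial) (c j) from
        Iso.hom_inv_id_apply (Scheme.ΓSpecIso (CommRingCat.of k)) _,
        show c₁.left.appLE ⊤ ⊤ (top_le_pre c₁ trivial) = c₁.left.appTop from c₁.left.appLE_eq_app,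
        ← CategoryTheory.comp_apply, ← Scheme.Hom.comp_appTop, ← Over.comp_left, lift_snd, Over.comp_left,
        Scheme.Hom.comp_appTop, CategoryTheory.comp_apply, Over.toUnit_left]
      rfl
    refine congrArg₂ (fun (r : Coh.Γtop A.left) w => r • w) hs ?_
    rw [pullF_pullF (show (AlgEquiv22.sl A c₁).left ≫ (fst A (Vo (V y))).left = 𝟙 A.left by
      rw [← Over.comp_left, sl_fst, Over.id_left])]
    refine congrArg (fun b => pullF (𝟙 A.left : A.left ⟶ A.left).base (abMap (𝟙 A.left) b) p (x j))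
      (Scheme.Modules.hom_ext _ _ fun W => ?_)
    refine AddCommGrpCat.ext fun s => ?_
    have hpre : (AlgEquiv22.sl A c₁).left ⁻¹ᵁ ((fst A (Vo (V y))).left ⁻¹ᵁ W) = W := by
      rw [← Scheme.Hom.comp_preimage, ← Over.comp_left, sl_fst]; rfl
    refine (pc_app _ _ _ W hpre.ge s).trans ?_
    refine Eq.trans ?_ ((idA_app M W s).trans (M1.mres_id M le_rfl s)).symm
    exact hr W s hpre.ge
  choose n c x hcx using hz
  obtain ⟨l, hl⟩ : ∃ l : Coh.HH A.left M p →ₗ[k] k, l (E x0) = 1 := by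
    have h : E x0 ≠ 0 := fun h => hx0 (pullF_injective (𝟙 A.left) hMq (idA M) p (h.trans (map_zero _).symm))
    obtain ⟨g, hg⟩ := (LinearMap.toSpanSingleton k _ (E x0)).exists_leftInverse_of_injective
      (LinearMap.ker_eq_bot.2 fun a b hab => smul_left_injective k h hab)
    exact ⟨g, by simpa using LinearMap.congr_fun hg 1⟩
  -- the numerators
  let F := fun y => ∑ j, c y j * (show Γ((Vo (V y)).left, ⊤) from Coh.toGlobal (Vo (V y)).hom (l (E (x y j))))
  -- the denominators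
  let O := fun y => (mu (V y)).left ⁻¹ᵁ V y ⊓ (fst A (Vo (V y))).left ⁻¹ᵁ W0
  have hO1 := fun y => (inf_le_left : O y ≤ (mu (V y)).left ⁻¹ᵁ V y)
  have hO2 := fun y => (inf_le_right : O y ≤ (fst A (Vo (V y))).left ⁻¹ᵁ W0)
  have hg : ∀ y, ∃ g : Γ((A ⊗ Vo (V y)).left, O y), IsUnit g ∧
      g • M1.mres _ (hO2 y) (M2.pullSec (fst A (Vo (V y))).left M ξ0) =
        M1.mres _ (hO1 y) (show Γ((Scheme.Modules.pullback (fst A (Vo (V y))).left).obj M, (mu (V y)).left ⁻¹ᵁ V y)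
          from (a y).app (V y) (ξ y)) := by
    intro y
    have hG := ((hξ y).pullback (mu (V y)).left).mres (hO1 y)
    have hH := (hξ0.pullback (fst A (Vo (V y))).left).mres (hO2 y)
    obtain ⟨g, hg⟩ := (hH (O y) le_rfl).2 ((φ y).some.hom.app (O y) (M1.mres _ (hO1 y) (M2.pullSec _ M (ξ y))))
    obtain ⟨b, hb⟩ := (hG (O y) le_rfl).2 ((φ y).some.inv.app (O y) (M1.mres _ (hO2 y) (M2.pullSec _ M ξ0)))
    dsimp only at hg hb
    rw [M1.mres_mres] at hg hb
    have hb' := congrArg ((φ y).some.hom.app (O y)) hb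
    rw [Scheme.Modules.Hom.app_smul] at hb'
    rw [← hg, ← mul_smul] at hb'
    have hb'' : b * g = 1 := (hH (O y) le_rfl).1 (by
      show (b * g) • M1.mres _ le_rfl _ = (1 : Γ((A ⊗ Vo (V y)).left, O y)) • M1.mres _ le_rfl _
      rw [M1.mres_id, one_smul, hb']
      exact congr(($((φ y).some.inv_hom_id)).app (O y) _))
    refine ⟨g, IsUnit.of_mul_eq_one_right _ hb'', hg.trans ?_⟩
    rw [M1.app_mres]
    exact congrArg (M1.mres _ (hO1 y)) (ha y (V y) (ξ y)).symm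
  choose g hgu hg using hg
  have hjO : ∀ y, (⊤ : (Vo (V y)).left.Opens) ≤ (jj (V y)).left ⁻¹ᵁ O y := fun y w _ => by
    refine ⟨?_, ?_⟩
    · show (mu (V y)).left ((jj (V y)).left w) ∈ V y
      rw [← Scheme.Hom.comp_apply, ← Over.comp_left, jj_mu]
      exact w.2
    · show (fst A (Vo (V y))).left ((jj (V y)).left w) ∈ W0
      rw [← Scheme.Hom.comp_apply, ← Over.comp_left, jj_fst, Over.comp_left, Scheme.Hom.comp_apply]
      exact (top_le_pre e0 he0) trivial
  let G := fun y => (jj (V y)).left.appLE (O y) ⊤ (hjO y) (g y)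
  have hGu : ∀ y, IsUnit (G y) := fun y => (hgu y).map _
  -- the behaviour at a rational point
  have hpt : ∀ y (c₀ : 𝟙_ (Over (Spec (CommRingCat.of k))) ⟶ A) (c₁ : 𝟙_ (Over (Spec (CommRingCat.of k))) ⟶ Vo (V y)),
      c₁ ≫ inc (V y) = c₀ →
      ∃ ac : M ⟶ (Scheme.Modules.pushforward (𝟙 A * (toUnit A ≫ c₀)).left).obj M,
        l (pullF (𝟙 A * (toUnit A ≫ c₀)).left.base (abMap _ ac) p x0) = ev c₁ ⊤ trivial (F y) ∧
        ∃ (U : A.left.Opens) (hU : U ≤ (𝟙 A * (toUnit A ≫ c₀)).left ⁻¹ᵁ V y) (hU0 : U ≤ W0) (he : CubeField.rpt e0 ∈ U)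
          (q : Γ(A.left, U)), q • M1.mres M hU0 ξ0 =
              M1.mres M hU (show Γ(M, (𝟙 A * (toUnit A ≫ c₀)).left ⁻¹ᵁ V y) from ac.app (V y) (ξ y)) ∧
            ev e0 U he q = ev c₁ ⊤ trivial (G y) ∧ ev c₁ ⊤ trivial (G y) ≠ 0 := by
    intro y c₀ c₁ hc
    obtain ⟨r, hr⟩ := exists_slice (show (AlgEquiv22.sl A c₁).left ≫ (fst A (Vo (V y))).left = 𝟙 _ by
      rw [← Over.comp_left, sl_fst, Over.id_left]) M
    have hk : (AlgEquiv22.sl A c₁).left ≫ (mu (V y)).left = (𝟙 A * (toUnit A ≫ c₀)).left := by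
      rw [← Over.comp_left, sl_mu, hc]
    refine ⟨pc hk (a y) r, ?_, ?_⟩
    · rw [hcx y _ c₁ r hr hk, map_sum]
      show _ = ev c₁ ⊤ trivial (F y)
      rw [map_sum (ev c₁ ⊤ trivial)]
      refine Finset.sum_congr rfl fun j _ => ?_
      rw [map_smul, map_mul, smul_eq_mul]
      congr 1
      have h2 := ev_global c₁ (U := ⊤) trivial (l (E (x y j)))
      rw [ev_res] at h2
      exact h2.symm
    · let U := (AlgEquiv22.sl A c₁).left ⁻¹ᵁ O y
      have hU : U ≤ (𝟙 A * (toUnit A ≫ c₀)).left ⁻¹ᵁ V y := by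
        rw [← hk]
        exact (AlgEquiv22.sl A c₁).left.preimage_mono (hO1 y)
      have hid : (AlgEquiv22.sl A c₁).left ⁻¹ᵁ ((fst A (Vo (V y))).left ⁻¹ᵁ W0) = W0 := by
        rw [← Scheme.Hom.comp_preimage, ← Over.comp_left, sl_fst]; rfl
      have hU0 : U ≤ W0 := le_trans ((AlgEquiv22.sl A c₁).left.preimage_mono (hO2 y)) hid.le
      have hej : e0 ≫ AlgEquiv22.sl A c₁ = c₁ ≫ jj (V y) := by
        simp only [comp_lift, Category.comp_id, e0, comp_toUnit_assoc, toUnit_unique (toUnit (𝟙_ _)) (𝟙 _), Category.id_comp]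
      have he : CubeField.rpt e0 ∈ U := by
        show (AlgEquiv22.sl A c₁).left (CubeField.rpt e0) ∈ O y
        rw [← CubeField.rpt_comp, hej, CubeField.rpt_comp]
        exact hjO y trivial
      refine ⟨U, hU, hU0, he, (AlgEquiv22.sl A c₁).left.appLE (O y) U le_rfl (g y), ?_, ?_, ?_⟩
      · have hX := congrArg (fun w => M1.mres M (le_refl U)
          (show Γ(M, (AlgEquiv22.sl A c₁).left ⁻¹ᵁ O y) from r.app (O y) w)) (hg y)
        rw [pushResSmul _ r (hO2 y) (g y) _ (le_refl U)] at hX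
        rw [pushRes _ r (hO1 y) _ (le_refl U)] at hX
        refine Eq.trans ?_ (hX.trans ?_)
        · congr 1
          exact (congrArg (M1.mres M hU0) (hr W0 ξ0 hid.ge).symm).trans (M1.mres_mres M hid.ge hU0 _)
        · rw [pc_app hk (a y) r (V y) (le_of_eq (by rw [← Scheme.Hom.comp_preimage, hk])) (ξ y)]
          exact (M1.mres_mres M _ hU _).symm
      · rw [ev_appLE, ev_congr hej]
        exact (ev_appLE c₁ (jj (V y)) (hjO y) trivial (g y)).symm
      · exact ((hGu y).map _).ne_zero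
  -- the local sections
  let H := fun y => (V y).topIso.hom (show Γ((Vo (V y)).left, ⊤) from F y * ↑(hGu y).unit⁻¹)
  let s := fun y => H y • ξ y
  have hevH : ∀ y (c₀ : 𝟙_ (Over (Spec (CommRingCat.of k))) ⟶ A) (c₁ : 𝟙_ (Over (Spec (CommRingCat.of k))) ⟶ Vo (V y))
      (hc : c₁ ≫ inc (V y) = c₀) (h : CubeField.rpt c₀ ∈ V y),
      ev c₀ (V y) h (H y) * ev c₁ ⊤ trivial (G y) = ev c₁ ⊤ trivial (F y) := by
    intro y c₀ c₁ hc h
    subst hc
    have hle : (⊤ : (Vo (V y)).left.Opens) ≤ (inc (V y)).left ⁻¹ᵁ V y := fun w _ => w.2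
    have hH : (inc (V y)).left.appLE (V y) ⊤ hle (H y) = F y * ↑(hGu y).unit⁻¹ := by
      have h1 : (V y).ι.appLE (V y) ⊤ hle = (V y).topIso.inv := by
        rw [Scheme.Opens.topIso_inv]
        simp [Scheme.Hom.appLE]
        rw [← Functor.map_comp]
        rfl
      exact (ConcreteCategory.congr_hom h1 (H y)).trans (Iso.hom_inv_id_apply (V y).topIso _)
    rw [← ev_appLE c₁ (inc (V y)) hle trivial (H y), hH, ← map_mul, mul_assoc, IsUnit.val_inv_mul, mul_one]
  -- agreement on overlaps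
  have hagree : ∀ y y', M1.mres M (inf_le_left : V y ⊓ V y' ≤ V y) (s y) =
      M1.mres M (inf_le_right : V y ⊓ V y' ≤ V y') (s y') := by
    intro y y'
    obtain ⟨u, hu⟩ := (hξ y (V y ⊓ V y') inf_le_left).2 (M1.mres M inf_le_right (ξ y'))
    simp only [s, M1.mres_smul, ← hu, ← mul_smul]
    congr 1
    refine sub_eq_zero.1 (eq_zero_of_ev _ fun c₀ hc₀ => ?_)
    obtain ⟨c₁, hc₁⟩ := exists_lift_open c₀ (V y) hc₀.1
    obtain ⟨c₂, hc₂⟩ := exists_lift_open c₀ (V y') hc₀.2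
    obtain ⟨ac, hF, U, hU, hU0, he, q, hq, hqe, hne⟩ := hpt y c₀ c₁ hc₁
    obtain ⟨ac', hF', U', hU', hU0', he', q', hq', hqe', hne'⟩ := hpt y' c₀ c₂ hc₂
    obtain ⟨e⟩ := exists_iso_translate hM hadd c₀
    obtain ⟨κ, hκ⟩ := exists_scalar hM e ac ac' ⟨V y, ξ y, fun h0 => hne (by
      have hq0 := hq
      rw [show ac.app (V y) (ξ y) = 0 from h0, map_zero] at hq0
      have : q = 0 := (hξ0 U hU0).1 (hq0.trans (zero_smul _ _).symm)
      rw [← hqe, this, map_zero])⟩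
    have hFF : ev c₂ ⊤ trivial (F y') = κ * ev c₁ ⊤ trivial (F y) := by
      rw [← hF, ← hF', pullF_smul_hom (𝟙 A * (toUnit A ≫ c₀)).left ac ac' (Coh.toGlobal A.hom κ) hκ p x0]
      exact map_smul l κ _
    have het : e0 ≫ (𝟙 A * (toUnit A ≫ c₀)) = c₀ := by
      rw [MonObj.comp_mul, Category.comp_id, comp_toUnit_assoc, toUnit_unique (toUnit (𝟙_ _)) (𝟙 _), Category.id_comp]
      exact _root_.one_mul _
    have hpre : U ⊓ U' ≤ (𝟙 A * (toUnit A ≫ c₀)).left ⁻¹ᵁ (V y ⊓ V y') := fun w hw => ⟨hU hw.1, hU' hw.2⟩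
    have heUU : CubeField.rpt e0 ∈ U ⊓ U' := ⟨he, he'⟩
    have hGG : ev c₂ ⊤ trivial (G y') = κ * ev c₀ _ hc₀ u * ev c₁ ⊤ trivial (G y) := by
      have h1 := congrArg (M1.mres M (inf_le_right : U ⊓ U' ≤ U')) hq'
      rw [M1.mres_smul, M1.mres_mres, M1.mres_mres] at h1
      have h2 : M1.mres M (inf_le_right.trans hU') (ac'.app (V y') (ξ y')) =
          M1.mres M hpre (show Γ(M, (𝟙 A * (toUnit A ≫ c₀)).left ⁻¹ᵁ (V y ⊓ V y')) from ac'.app _ (M1.mres M inf_le_right (ξ y'))) := by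
        rw [M1.app_mres]
        exact (M1.mres_mres M ((𝟙 A * (toUnit A ≫ c₀)).left.preimage_mono inf_le_right) hpre _).symm
      rw [h2, ← hu, Scheme.Modules.Hom.app_smul] at h1
      replace h1 : ores inf_le_right q' • M1.mres M (inf_le_left.trans hU0) ξ0 =
          M1.mres M hpre ((𝟙 A * (toUnit A ≫ c₀)).left.app (V y ⊓ V y') u •
            (show Γ(M, (𝟙 A * (toUnit A ≫ c₀)).left ⁻¹ᵁ (V y ⊓ V y')) from ac'.app _ (M1.mres M inf_le_left (ξ y)))) := h1
      rw [hκ, M1.mres_smul, M1.mres_smul, M1.ores_ores, M1.app_mres] at h1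
      have h3 := congrArg (M1.mres M (inf_le_left : U ⊓ U' ≤ U)) hq
      rw [M1.mres_smul, M1.mres_mres, M1.mres_mres] at h3
      rw [show M1.mres M hpre (M1.mres ((Scheme.Modules.pushforward (𝟙 A * (toUnit A ≫ c₀)).left).obj M) inf_le_left (ac.app (V y) (ξ y))) =
        M1.mres M (inf_le_left.trans hU) (ac.app (V y) (ξ y)) from
          M1.mres_mres M ((𝟙 A * (toUnit A ≫ c₀)).left.preimage_mono inf_le_left) hpre _, ← h3, ← mul_smul, ← mul_smul] at h1
      have h4 := congrArg (ev e0 _ heUU) ((hξ0 (U ⊓ U') (inf_le_left.trans hU0)).1 h1)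
      rw [map_mul, map_mul, ev_res, ev_res] at h4
      rw [Scheme.Hom.app_eq_appLE, ev_appLE, ev_congr het, hqe'] at h4
      rw [show ev e0 (U ⊓ U') heUU (ores _ (Coh.toGlobal A.hom κ : Γ(A.left, ⊤))) = κ from ev_global e0 heUU κ, ev_res, hqe] at h4
      rw [h4]
      ring
    rw [map_sub, map_mul, ev_res, ev_res, sub_eq_zero]
    have e1 := hevH y c₀ c₁ hc₁ hc₀.1
    have e2 := hevH y' c₀ c₂ hc₂ hc₀.2
    rw [hFF, hGG, ← e1] at e2
    have hκ0 : κ ≠ 0 := fun h => hne' (by rw [hGG, h, zero_mul, zero_mul])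
    refine mul_right_cancel₀ (mul_ne_zero hκ0 hne) ?_
    linear_combination -e2
  obtain ⟨σ, hσ, -⟩ := TopCat.Sheaf.existsUnique_gluing' ⟨_, M.isSheaf⟩ V ⊤ (fun y => homOfLE le_top)
    (fun w _ => Opens.mem_iSup.2 ⟨w, hyV w⟩) s fun y y' => hagree y y'
  -- it does not vanish at the origin
  let y0 := CubeField.rpt e0
  obtain ⟨c₁, hc₁⟩ := exists_lift_open e0 (V y0) (hyV y0)
  obtain ⟨ac, hF, U, hU, hU0, he, q, hq, hqe, hne⟩ := hpt y0 e0 c₁ hc₁
  have ht : (𝟙 A * (toUnit A ≫ e0)).left = 𝟙 A.left := by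
    rw [MonObj.comp_one, _root_.mul_one, Over.id_left]
  have hξne : ξ y0 ≠ 0 := fun h => by
    have h1 := (hξ y0 (V y0) le_rfl).1 (show (1 : Γ(A.left, V y0)) • M1.mres M le_rfl (ξ y0) = (0 : Γ(A.left, V y0)) • M1.mres M le_rfl (ξ y0) by
      rw [h, map_zero, smul_zero, smul_zero])
    have h2 := congrArg (ev e0 (V y0) (hyV y0)) h1
    rw [map_one, map_zero] at h2
    exact one_ne_zero h2
  obtain ⟨κ, hκ0, hκ⟩ := pullF_of_eq_id ht hM ⟨V y0, ξ y0, hξne⟩ ac ⟨V y0, ξ y0, fun h0 => hne (by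
      have hq0 := hq
      rw [show ac.app (V y0) (ξ y0) = 0 from h0, map_zero] at hq0
      have : q = 0 := (hξ0 U hU0).1 (hq0.trans (zero_smul _ _).symm)
      rw [← hqe, this, map_zero])⟩ p
  have hFne : ev c₁ ⊤ trivial (F y0) ≠ 0 := by
    rw [← hF, hκ, map_smul, hl, smul_eq_mul, _root_.mul_one]
    exact hκ0
  have hHne : ev e0 (V y0) (hyV y0) (H y0) ≠ 0 := fun h => hFne (by
    rw [← hevH y0 e0 c₁ hc₁ (hyV y0), h, zero_mul])
  let e : Coh.HH A.left M 0 ≃+ Γ(M, (⊤ : A.left.Opens)) :=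
    Sheaf.H.equiv₀ (Coh.toAb M) (CategoryTheory.Limits.isTerminalTop (α := A.left.Opens))
  refine ⟨e.symm σ, 0, fun h0 => hHne ?_⟩
  have hσ0 : (σ : Γ(M, (⊤ : A.left.Opens))) = 0 := e.symm.injective (h0.trans (map_zero e.symm).symm)
  have h1 : M1.mres M (le_top : V y0 ≤ ⊤) σ = H y0 • ξ y0 := hσ y0
  rw [hσ0, map_zero] at h1
  have h2 : H y0 = 0 := (hξ y0 (V y0) le_rfl).1 (by
    show H y0 • M1.mres M le_rfl (ξ y0) = (0 : Γ(A.left, V y0)) • M1.mres M le_rfl (ξ y0)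
    rw [M1.mres_id, zero_smul, ← h1])
  rw [h2, map_zero]

end Groth.Agent.MumVan22
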