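import Groth.Agent.Lib.MumVan22.Acyclic
import Groth.Agent.Lib.MumVan22.Surj
import Groth.Agent.S0051

/-!
# Uniform vanishing on fibres for large twists by a relatively ample module
-/

set_option autoImplicit false
set_option linter.style.haveILetI false
set_option linter.unusedSectionVars false
set_option maxHeartbeats 1000000
set_option backward.isDefEq.respectTransparency false

universe u

open CategoryTheory CategoryTheory.Limits AlgebraicGeometry TopologicalSpace Opposite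

noncomputable section

namespace Groth.Agent.MumVan22

open Groth.Agent.CohFound Groth.Agent.CBC10

/-- Vanishing homology up to a degree stays after tensoring. -/
theorem subsingleton_T_of_H_le {A : Type u} [CommRing A] (P : ChainComplex (ModuleCat.{u} A) ℤ)
    [∀ i, Module.Finite A (P.X i)] [∀ i, Module.Flat A (P.X i)] {i₀ : ℤ} (hb : ∀ i < i₀, IsZero (P.X i)) (p : ℤ)
    (h : ∀ q ≤ p, Subsingleton (FlatCxLib.H P q)) (M : ModuleCat.{u} A) : Subsingleton (CohIII.T P p M) := by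
  haveI := h p le_rfl
  have he := (FlatCxLib.exact_of_flat_H P hb p (fun q hq => haveI := h q hq; inferInstance) le_rfl).2
  exact ((FlatCxLib.theta_bijective P p he M).2).subsingleton

variable {X Y : Scheme.{u}} (f : X ⟶ Y) [IsProper f] [IsLocallyNoetherian Y]

/-- Vanishing in positive degrees over an affine open makes the fibres vanish in positive degrees. -/
theorem fibres_pos_of_hhon {F : X.Modules} (hF : Coh.IsCoh F) (hfl : FlatMod.IsFlatOver f F) {U : Y.Opens}
    (hU : IsAffineOpen U)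
    (h : ∀ n : ℕ, 0 < n → Subsingleton (Coh.HH ((f ⁻¹ᵁ U : X.Opens) : Scheme.{u}) (resU f F U) n))
    {y : Y} (hy : y ∈ U) (p : ℕ) (hp : 0 < p) : Subsingleton (CohIII.fiberH f F y p) := by
  obtain ⟨P, hfin, hflat, ⟨i₀, hb⟩, hpos, hP⟩ := exists_complexOn hF hfl hU
  haveI := hfin
  haveI := hflat
  letI := overU f hU
  haveI := isProper_overU f hU
  haveI : CompactSpace ((f ⁻¹ᵁ U : X.Opens) : Scheme.{u}) :=
    QuasiCompact.compactSpace_of_compactSpace ((f ⁻¹ᵁ U : X.Opens).toScheme ↘ Spec (CommRingCat.of Γ(Y, U)))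
  haveI : ((f ⁻¹ᵁ U : X.Opens) : Scheme.{u}).IsSeparated := ⟨by
    rw [← terminal.comp_from ((f ⁻¹ᵁ U : X.Opens).toScheme ↘ Spec (CommRingCat.of Γ(Y, U)))]; infer_instance⟩
  have hH : ∀ q : ℤ, q ≤ -(p : ℤ) → Subsingleton (FlatCxLib.H P q) := fun q hq => by
    obtain ⟨n, rfl⟩ : ∃ n : ℕ, q = -(n : ℤ) := ⟨(-q).toNat, by omega⟩
    obtain ⟨e⟩ := Computes.exists_unit hP (isCoh_resU (f := f) (U := U) hF).1 n
    haveI := h n (by omega)
    exact e.toEquiv.subsingleton
  refine (hP.subsingleton_fiberH_iff hy hF.1 p).2 ?_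
  exact subsingleton_T_of_H_le P hb _ hH _

/-- Relative Serre vanishing on fibres. -/
theorem exists_fibres_vanish [CompactSpace Y] [Flat f] {L : X.Modules} (hL : PicF.IsInvertible L)
    (hamp : ∀ U : Y.Opens, IsAffineOpen U →
      CohB1.IsAmple ((Scheme.Modules.pullback (f ⁻¹ᵁ U).ι).obj L))
    {N : X.Modules} (hN : PicF.IsInvertible N) :
    ∃ N₀ : ℕ, ∀ n, N₀ ≤ n → ∀ (y : Y) (p : ℕ), 0 < p →
      Subsingleton (CohIII.fiberH f (CohB1.tensorMod N (CohB1.tensorPow L n)) y p) := by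
  classical
  have hone : ∀ y : Y, ∃ (U : Y.Opens) (n₀ : ℕ), y ∈ U ∧ ∀ n, n₀ ≤ n → ∀ z ∈ U, ∀ p : ℕ, 0 < p →
      Subsingleton (CohIII.fiberH f (CohB1.tensorMod N (CohB1.tensorPow L n)) z p) := by
    intro y
    obtain ⟨U, hU, hyU, -⟩ := exists_isAffineOpen_mem_and_subset (X := Y) (x := y) (U := ⊤) trivial
    let W : X.Opens := f ⁻¹ᵁ U
    haveI : IsNoetherianRing Γ(Y, U) := IsLocallyNoetherian.component_noetherian ⟨U, hU⟩
    letI := overU f hU
    haveI := isProper_overU f hU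
    have hNW : PicF.IsInvertible ((Scheme.Modules.pullback W.ι).obj N) := PicLoc.isInvertible_pullback _ hN
    obtain ⟨n₀, hn₀⟩ := (Groth.Agent.S0051.result Γ(Y, U) W.toScheme (W.toScheme ↘ Spec (CommRingCat.of Γ(Y, U)))
      _ (hamp U hU).1).1 (hamp U hU) _
      ⟨M2.isQCoh_of_isFinLocFree (M2.isFinLocFree_of_isInvertible hNW),
        M1.isFP_isFT (M1.isFP_of_isFinLocFree (M2.isFinLocFree_of_isInvertible hNW))⟩
    refine ⟨U, n₀, hyU, fun n hn z hz p hp => ?_⟩
    have hT : PicF.IsInvertible (CohB1.tensorMod N (CohB1.tensorPow L n)) :=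
      M2.isInvertible_tensor hN (M2.isInvertible_tensorPow hL n)
    have hTf := M2.isFinLocFree_of_isInvertible hT
    refine fibres_pos_of_hhon f ⟨M2.isQCoh_of_isFinLocFree hTf, M1.isFP_isFT (M1.isFP_of_isFinLocFree hTf)⟩
      (DPerf.isFlatOver_of_isFlat f fun x => KFlat.Sch.isFlat_of_isFinLocFree hTf x) hU (fun m hm => ?_) hz p hp
    let e : resU f (CohB1.tensorMod N (CohB1.tensorPow L n)) U ≅
        CohB1.tensorMod ((Scheme.Modules.pullback W.ι).obj N)
          (CohB1.tensorPow ((Scheme.Modules.pullback W.ι).obj L) n) :=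
      (Scheme.Modules.restrictFunctorIsoPullback W.ι).app _ ≪≫ M2.pullTensorIso W.ι N _ ≪≫
        M2.tensorIso (Iso.refl _) (M2.pullTensorPowIso W.ι L n)
    haveI := hn₀ n hn m hm
    exact (CBC10.hmapEquiv e m).toEquiv.subsingleton
  choose U n₀ hyU hU using hone
  obtain ⟨s, hs⟩ := isCompact_univ.elim_finite_subcover (fun y => (U y : Set Y)) (fun y => (U y).isOpen)
    (fun y _ => Set.mem_iUnion.2 ⟨y, hyU y⟩)
  refine ⟨s.sup n₀, fun n hn y p hp => ?_⟩
  obtain ⟨i, hi, hyi⟩ := Set.mem_iUnion₂.1 (hs (Set.mem_univ y))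
  exact hU i n ((Finset.le_sup hi).trans hn) y hyi p hp

end Groth.Agent.MumVan22
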