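import Groth.Agent.Lib.MumVan22.Coeff
import Groth.Agent.Lib.MumVan22.Pull
import Groth.Agent.Lib.AlgEquiv22.Basic
import Groth.Agent.Lib.CubeField.Contract
import Groth.Agent.Lib.RigidRel.Const
import Groth.Agent.Lib.ThetaGrp19.Scalar
import Mathlib.LinearAlgebra.Dual.Lemmas

/-!
# An additive class over a small affine open, and scalars
-/

universe u

open CategoryTheory Limits MonoidalCategory CartesianMonoidalCategory AlgebraicGeometry TopologicalSpace Opposite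
open scoped MonObj GrpObj

set_option linter.style.haveILetI false
set_option linter.unusedSectionVars false
set_option maxHeartbeats 1000000
set_option backward.isDefEq.respectTransparency false

noncomputable section

namespace Groth.Agent.MumVan22

open Groth.Agent.M1 Groth.Agent.Twist

noncomputable local instance instLawMV (Y : Scheme.{u}) : PicGrp.Law Y := M2.law Y

variable {k : Type u} [Field k] {A : Over (Spec (CommRingCat.of k))}

/-- An open as an object over the base. -/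
abbrev Vo (V : A.left.Opens) : Over (Spec (CommRingCat.of k)) := Over.mk (V.ι ≫ A.hom)

/-- The inclusion. -/
abbrev inc (V : A.left.Opens) : Vo V ⟶ A := Over.homMk V.ι rfl

theorem toSpec_global {Y : Scheme.{u}} (f : Y ⟶ Spec (CommRingCat.of k)) :
    Y.toSpecΓ ≫ Spec.map (@CommRingCat.ofHom k Γ(Y, ⊤) _ _ (Coh.toGlobal f)) = f := by
  rw [show @CommRingCat.ofHom k Γ(Y, ⊤) _ _ (Coh.toGlobal f) = (Scheme.ΓSpecIso (CommRingCat.of k)).inv ≫ f.appTop from rfl,
    Spec.map_comp, ← Scheme.toSpecΓ_naturality_assoc, toSpecΓ_SpecMap_ΓSpecIso_inv, Category.comp_id]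

/-- The product with an affine open is the base change to its ring. -/
theorem sq_fst (V : A.left.Opens) [IsAffine (V : Scheme.{u})] :
    letI : Algebra k Γ((Vo V).left, ⊤) := RingHom.toAlgebra (R := k) (S := Γ((Vo V).left, ⊤)) (Coh.toGlobal (Vo V).hom)
    letI : A.left.Over (Spec (CommRingCat.of k)) := ⟨A.hom⟩
    letI : (A ⊗ Vo V).left.Over (Spec (CommRingCat.of Γ((Vo V).left, ⊤))) :=
      ⟨(snd A (Vo V)).left ≫ (Vo V).left.toSpecΓ⟩
    letI : (A ⊗ Vo V).left.Over (Spec (CommRingCat.of k)) := ⟨(A ⊗ Vo V).hom⟩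
    CBC10.Sq (A := k) (B := Γ((Vo V).left, ⊤)) (fst A (Vo V)).left := by
  letI : Algebra k Γ((Vo V).left, ⊤) := RingHom.toAlgebra (R := k) (S := Γ((Vo V).left, ⊤)) (Coh.toGlobal (Vo V).hom)
  letI : A.left.Over (Spec (CommRingCat.of k)) := ⟨A.hom⟩
  letI : (A ⊗ Vo V).left.Over (Spec (CommRingCat.of Γ((Vo V).left, ⊤))) :=
    ⟨(snd A (Vo V)).left ≫ (Vo V).left.toSpecΓ⟩
  letI : (A ⊗ Vo V).left.Over (Spec (CommRingCat.of k)) := ⟨(A ⊗ Vo V).hom⟩
  haveI : IsAffine (Vo V).left := inferInstanceAs (IsAffine (V : Scheme.{u}))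
  have h : (Vo V).left.toSpecΓ ≫ Spec.map (CommRingCat.ofHom (algebraMap k Γ((Vo V).left, ⊤))) = (Vo V).hom :=
    toSpec_global (Vo V).hom
  refine ⟨?_, ?_⟩
  · refine IsPullback.of_iso (IsPullback.of_hasPullback A.hom (Vo V).hom) (Iso.refl _) (Iso.refl _)
      (asIso (Vo V).left.toSpecΓ) (Iso.refl _) ?_ ?_ ?_ ?_
    · simp
    · exact (Category.id_comp _).symm
    · exact (Category.comp_id _).trans (Category.id_comp _).symm
    · exact (Category.comp_id _).trans h.symm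
  · show (A ⊗ Vo V).hom = ((snd A (Vo V)).left ≫ (Vo V).left.toSpecΓ) ≫ Spec.map _
    rw [Category.assoc, h, Over.w]

variable [GrpObj A]

/-- `(a, v) ↦ a + v`. -/
abbrev mu (V : A.left.Opens) : A ⊗ Vo V ⟶ A := fst A (Vo V) * (snd A (Vo V) ≫ inc V)

/-- `v ↦ (0, v)`. -/
abbrev jj (V : A.left.Opens) : Vo V ⟶ A ⊗ Vo V := lift (toUnit (Vo V) ≫ 1) (𝟙 (Vo V))

theorem jj_mu (V : A.left.Opens) : jj V ≫ mu V = inc V := by
  rw [MonObj.comp_mul, lift_fst, lift_snd_assoc, Category.id_comp, MonObj.comp_one, _root_.one_mul]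

theorem jj_fst (V : A.left.Opens) : jj V ≫ fst A (Vo V) = toUnit (Vo V) ≫ 1 := lift_fst _ _

theorem sl_mu (V : A.left.Opens) (c : 𝟙_ (Over (Spec (CommRingCat.of k))) ⟶ Vo V) :
    AlgEquiv22.sl A c ≫ mu V = 𝟙 A * (toUnit A ≫ c ≫ inc V) := by
  rw [MonObj.comp_mul, lift_fst, lift_snd_assoc, Category.assoc]

theorem sl_fst (V : A.left.Opens) (c : 𝟙_ (Over (Spec (CommRingCat.of k))) ⟶ Vo V) :
    AlgEquiv22.sl A c ≫ fst A (Vo V) = 𝟙 A := lift_fst _ _

/-- An additive class gives `μ^* M ≅ p^* M` where `M` is trivial. -/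
theorem exists_iso_mu {M : A.left.Modules} (hM : PicF.IsInvertible M) (hadd : AlgEquiv22.Add (PicGrp.cls M hM))
    (V : A.left.Opens) (hV : CubeField.IsTriv ((Scheme.Modules.pullback V.ι).obj M)) :
    Nonempty ((Scheme.Modules.pullback (mu V).left).obj M ≅
      (Scheme.Modules.pullback (fst A (Vo V)).left).obj M) := by
  have h := hadd (fst A (Vo V)) (snd A (Vo V) ≫ inc V)
  have h1 : AlgEquiv22.pb (inc V) (PicGrp.cls M hM) = 1 := (AlgEquiv22.isTriv_iff (inc V) hM).1 hV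
  rw [← AlgEquiv22.pb_pb, h1, map_one, _root_.mul_one, AlgEquiv22.pb, AlgEquiv22.pb, PicGrp.pullHom_cls,
    PicGrp.pullHom_cls] at h
  exact (PicGrp.cls_eq_cls_iff _ _).1 h

/-- A translation invariant class: `t^* M ≅ M`. -/
theorem exists_iso_translate {M : A.left.Modules} (hM : PicF.IsInvertible M)
    (hadd : AlgEquiv22.Add (PicGrp.cls M hM)) (c₀ : 𝟙_ (Over (Spec (CommRingCat.of k))) ⟶ A) :
    Nonempty ((Scheme.Modules.pullback (𝟙 A * (toUnit A ≫ c₀)).left).obj M ≅ M) := by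
  have h := hadd.toInv c₀
  rw [AlgEquiv22.pb, PicGrp.pullHom_cls] at h
  exact (PicGrp.cls_eq_cls_iff _ _).1 h

/-- An invertible module is trivial on small affine opens. -/
theorem exists_small {M : A.left.Modules} (hM : PicF.IsInvertible M) (y : A.left) :
    ∃ (V : A.left.Opens) (ξ : Γ(M, V)), y ∈ V ∧ IsAffineOpen V ∧ IsGen M V ξ ∧
      CubeField.IsTriv ((Scheme.Modules.pullback V.ι).obj M) := by
  obtain ⟨D, hyD, ⟨i⟩⟩ := hM y
  obtain ⟨E, g, hyE, hg⟩ := PicDesc21.exists_gen hM y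
  obtain ⟨V, hV, hyV, hle⟩ := exists_isAffineOpen_mem_and_subset (X := A.left) (x := y) (U := D ⊓ E) ⟨hyD, hyE⟩
  have hVD : V ≤ D := le_trans hle inf_le_left
  refine ⟨V, M1.mres M (le_trans hle inf_le_right) g, hyV, hV, hg.mres _, ⟨?_⟩⟩
  let l := A.left.homOfLE hVD
  exact (Scheme.Modules.pullbackCongr (A.left.homOfLE_ι hVD).symm).app M ≪≫
    ((Scheme.Modules.pullbackComp l D.ι).app M).symm ≪≫
    (Scheme.Modules.pullback l).mapIso ((Scheme.Modules.restrictFunctorIsoPullback D.ι).symm.app M ≪≫ i) ≪≫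
    PicLoc.pullbackStructureIso l

variable [IsProper A.hom] [GeometricallyIntegral A.hom] [IsAlgClosed k]

theorem exists_const (κ : Γ(A.left, ⊤)) : ∃ κ' : k, Coh.toGlobal A.hom κ' = κ := by
  haveI := CubeField.geometricallyConnected_of_irreducible A.hom
  obtain ⟨r, hr⟩ := RigidRel.surjective_appTop A.hom κ
  refine ⟨(Scheme.ΓSpecIso (CommRingCat.of k)).hom r, ?_⟩
  show A.hom.appTop ((Scheme.ΓSpecIso (CommRingCat.of k)).inv ((Scheme.ΓSpecIso (CommRingCat.of k)).hom r)) = κ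
  rw [Iso.hom_inv_id_apply]
  exact hr

/-- Maps into the translate are proportional. -/
theorem exists_scalar {t : A.left ⟶ A.left} {M : A.left.Modules} (hM : PicF.IsInvertible M)
    (e : (Scheme.Modules.pullback t).obj M ≅ M) (a b : M ⟶ (Scheme.Modules.pushforward t).obj M)
    (ha : ∃ (W : A.left.Opens) (s : Γ(M, W)), (show Γ(M, t ⁻¹ᵁ W) from a.app W s) ≠ 0) :
    ∃ κ : k, ∀ (W : A.left.Opens) (s : Γ(M, W)), (show Γ(M, t ⁻¹ᵁ W) from b.app W s) =
      M1.ores (le_top : t ⁻¹ᵁ W ≤ ⊤) (Coh.toGlobal A.hom κ) • (show Γ(M, t ⁻¹ᵁ W) from a.app W s) := by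
  let adj := Scheme.Modules.pullbackPushforwardAdjunction t
  let q := adj.homEquiv M M e.hom
  have key : ∀ f : M ⟶ (Scheme.Modules.pushforward t).obj M, ∃ κ : k, ∀ (W : A.left.Opens) (s : Γ(M, W)),
      (show Γ(M, t ⁻¹ᵁ W) from f.app W s) =
        M1.ores (le_top : t ⁻¹ᵁ W ≤ ⊤) (Coh.toGlobal A.hom κ) • (show Γ(M, t ⁻¹ᵁ W) from q.app W s) := by
    intro f
    obtain ⟨c, hc, -⟩ := ThetaGrp19.existsUnique_smulHom hM (e.inv ≫ (adj.homEquiv M M).symm f)
    obtain ⟨κ, rfl⟩ := exists_const c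
    refine ⟨κ, fun W s => ?_⟩
    have h1 : f = q ≫ (Scheme.Modules.pushforward t).map (ThetaGrp19.smulHom M (Coh.toGlobal A.hom κ)) := by
      rw [← Adjunction.homEquiv_naturality_right, ← hc, Iso.hom_inv_id_assoc, Equiv.apply_symm_apply]
    rw [h1]
    rfl
  obtain ⟨κa, hκa⟩ := key a
  obtain ⟨κb, hκb⟩ := key b
  have hne : κa ≠ 0 := by
    rintro rfl
    obtain ⟨W, s, hs⟩ := ha
    refine hs ?_
    rw [hκa, map_zero, map_zero]
    exact zero_smul _ _
  refine ⟨κb * κa⁻¹, fun W s => ?_⟩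
  rw [hκb, hκa]
  refine Eq.trans ?_ (mul_smul _ _ _)
  congr 1
  exact (congrArg (fun z => M1.ores (le_top : t ⁻¹ᵁ W ≤ ⊤) (Coh.toGlobal A.hom z))
    (inv_mul_cancel_right₀ hne κb).symm).trans ((congrArg _ (map_mul (Coh.toGlobal A.hom) _ _)).trans (map_mul (M1.ores (le_top : t ⁻¹ᵁ W ≤ ⊤)).hom _ _))

end Groth.Agent.MumVan22
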